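/-
One-parameter subgroups: conjugation orbits as points, the closed subgroups P(λ) and U(λ).
-/
import Groth.Prelude.Def_Dyn
import Mathlib.RingTheory.Bialgebra.Convolution
import Mathlib.RingTheory.HopfAlgebra.Convolution
import Mathlib.RingTheory.HopfAlgebra.Quotient
import Mathlib.RingTheory.Bialgebra.MonoidAlgebra
import Mathlib.Algebra.Group.Hom.Basic

set_option autoImplicit false

universe u

open LaurentPolynomial TensorProduct WithConv

namespace Groth.Agent.DynLib

variable {k : Type u} [CommRing k] {A : Type u} [CommRing A] [HopfAlgebra k A]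
variable {R : Type u} [CommRing R] [Algebra k R] {R' : Type u} [CommRing R'] [Algebra k R']

/-- Points with values in a commutative algebra form a group. -/
@[reducible] noncomputable def pointsGroup : Group (WithConv (A →ₐ[k] R)) :=
  { (inferInstance : Monoid (WithConv (A →ₐ[k] R))) with
    inv := fun f => toConv (f.ofConv.comp (HopfAlgebra.antipodeAlgHom k A))
    inv_mul_cancel := fun f => by
      have hid : toConv (HopfAlgebra.antipodeAlgHom k A) * toConv (AlgHom.id k A) = 1 := by
        apply WithConv.ext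
        apply AlgHom.toLinearMap_injective
        apply toConv_injective
        rw [AlgHom.toLinearMap_convMul, AlgHom.toLinearMap_convOne]
        exact LinearMap.antipode_mul_id
      have h := AlgHom.comp_convMul_distrib f.ofConv (toConv (HopfAlgebra.antipodeAlgHom k A))
        (toConv (AlgHom.id k A))
      rw [hid] at h
      simp only [AlgHom.comp_id, ofConv_toConv] at h
      apply WithConv.ext
      change _ = _
      refine h.symm.trans ?_
      ext a
      simp }

attribute [local instance] pointsGroup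

theorem inv_def (f : WithConv (A →ₐ[k] R)) :
    f⁻¹ = toConv (f.ofConv.comp (HopfAlgebra.antipodeAlgHom k A)) := rfl

/-- Composition with an algebra map, on groups of points. -/
noncomputable def push (ψ : R →ₐ[k] R') : WithConv (A →ₐ[k] R) →* WithConv (A →ₐ[k] R') where
  toFun f := toConv (ψ.comp f.ofConv)
  map_one' := by
    apply WithConv.ext
    ext a
    simp
  map_mul' f g := by
    apply WithConv.ext
    exact AlgHom.comp_convMul_distrib ψ f g

@[simp] theorem push_toConv (ψ : R →ₐ[k] R') (f : A →ₐ[k] R) :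
    push ψ (toConv f) = toConv (ψ.comp f) := rfl

theorem conv3_eq (f g h : A →ₐ[k] R) :
    Dyn.conv3 k A f g h = (toConv f * toConv g * toConv h).ofConv := by
  apply AlgHom.ext
  intro a
  show _ = (toConv f * toConv g * toConv h) a
  rw [AlgHom.convMul_apply]
  simp only [Dyn.conv3, AlgHom.comp_apply, Bialgebra.comulAlgHom_apply, ofConv_toConv]
  generalize CoalgebraStruct.comul (R := k) a = z
  induction z using TensorProduct.induction_on with
  | zero => simp
  | add z w hz hw => simp only [map_add, hz, hw]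
  | tmul x y =>
    simp only [Algebra.TensorProduct.map_tmul, AlgHom.comp_apply, AlgHom.id_apply,
      Algebra.TensorProduct.lmul'_apply_tmul]
    simp only [Algebra.TensorProduct.lift_tmul]
    congr 1

/-- Evaluation of Laurent polynomials: coefficients through φ, T ↦ t. -/
noncomputable def ev (φ : R →ₐ[k] R') (t : R'ˣ) : R[T;T⁻¹] →ₐ[k] R' :=
  AddMonoidAlgebra.liftNCAlgHom φ ((Units.coeHom R').comp (zpowersHom R'ˣ t))
    (fun _ _ => Commute.all _ _)

theorem ev_single (φ : R →ₐ[k] R') (t : R'ˣ) (n : ℤ) (r : R) :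
    ev φ t (AddMonoidAlgebra.single n r) = φ r * ((t ^ n : R'ˣ) : R') := by
  show AddMonoidAlgebra.liftNC (φ : R →+ R') _ (AddMonoidAlgebra.single n r) = _
  rw [AddMonoidAlgebra.liftNC_single]
  simp [zpowersHom_apply]

theorem ev_const (φ : R →ₐ[k] R') (t : R'ˣ) (r : R) :
    ev φ t (IsScalarTower.toAlgHom k R R[T;T⁻¹] r) = φ r := by
  rw [show IsScalarTower.toAlgHom k R R[T;T⁻¹] r = AddMonoidAlgebra.single 0 r from rfl, ev_single]
  simp

theorem hom_ext {f g : R[T;T⁻¹] →ₐ[k] R'} (h : ∀ (n : ℤ) (r : R),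
    f (AddMonoidAlgebra.single n r) = g (AddMonoidAlgebra.single n r)) : f = g := by
  apply AlgHom.ext
  intro x
  induction x using LaurentPolynomial.induction_on' with
  | add p q hp hq => rw [map_add, map_add, hp, hq]
  | C_mul_T n r => rw [← single_eq_C_mul_T]; exact h n r

variable (R) in
/-- The variable T as a unit. -/
noncomputable def unitT : (R[T;T⁻¹])ˣ := (isUnit_T (R := R) 1).unit

theorem unitT_zpow (n : ℤ) : ((unitT R ^ n : (R[T;T⁻¹])ˣ) : R[T;T⁻¹]) = T n := by
  induction n using Int.induction_on with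
  | zero => simp
  | succ i hi =>
    rw [zpow_add_one, Units.val_mul, hi, T_add]
    rfl
  | pred i hi =>
    have h2 : ((unitT R ^ (-(i : ℤ) - 1) : (R[T;T⁻¹])ˣ) : R[T;T⁻¹]) * T 1 = T (-(i : ℤ)) := by
      rw [← hi, show (T 1 : R[T;T⁻¹]) = ((unitT R : (R[T;T⁻¹])ˣ) : R[T;T⁻¹]) from rfl, ← Units.val_mul]
      rw [← zpow_add_one, sub_add_cancel]
    apply (isUnit_T (R := R) 1).mul_right_cancel
    rw [h2, ← T_add, sub_add_cancel]

theorem ev_T (φ : R →ₐ[k] R') (t : R'ˣ) (n : ℤ) : ev φ t (T n) = ((t ^ n : R'ˣ) : R') := by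
  rw [LaurentPolynomial.T, ev_single, map_one, one_mul]

theorem map_ev (ψ : R' →ₐ[k] R) {S : Type u} [CommRing S] [Algebra k S] (φ : S →ₐ[k] R') (t : R'ˣ) :
    ψ.comp (ev φ t) = ev (ψ.comp φ) (Units.map ψ.toRingHom.toMonoidHom t) := by
  refine hom_ext fun n r => ?_
  rw [AlgHom.comp_apply, ev_single, ev_single, map_mul, ← map_zpow]
  rfl

variable (lam : A →ₐc[k] k[T;T⁻¹])

/-- The point λ(t). -/
noncomputable def lamAt (t : R'ˣ) : WithConv (A →ₐ[k] R') :=
  toConv ((ev (Algebra.ofId k R') t).comp (lam : A →ₐ[k] k[T;T⁻¹]))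

theorem push_lamAt (ψ : R →ₐ[k] R') (t : Rˣ) :
    push ψ (lamAt lam t) = lamAt lam (Units.map ψ.toRingHom.toMonoidHom t) := by
  rw [lamAt, push_toConv, ← AlgHom.comp_assoc, map_ev, lamAt]
  congr 3
  exact Subsingleton.elim _ _

theorem lamAt_mul (s t : R'ˣ) : lamAt lam (s * t) = lamAt lam s * lamAt lam t := by
  have key : toConv (ev (Algebra.ofId k R') (s * t)) =
      toConv (ev (Algebra.ofId k R') s) * toConv (ev (Algebra.ofId k R') t) := by
    apply WithConv.ext
    refine hom_ext fun n r => ?_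
    show _ = (toConv (ev (Algebra.ofId k R') s) * toConv (ev (Algebra.ofId k R') t))
      (AddMonoidAlgebra.single n r)
    rw [AlgHom.convMul_apply, AddMonoidAlgebra.comul_single]
    simp only [CommSemiring.comul_apply, TensorProduct.map_tmul, ofConv_toConv]
    simp only [Algebra.TensorProduct.lift_tmul, AddMonoidAlgebra.lsingle_apply, ev_single,
      map_one, mul_zpow, Units.val_mul]
    ring
  apply WithConv.ext
  show (toConv (ev (Algebra.ofId k R') (s * t))).ofConv.comp (lam : A →ₐ[k] k[T;T⁻¹]) = _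
  rw [key, AlgHom.convMul_comp_bialgHom_distrib]
  rfl

theorem lamAt_one : lamAt lam (1 : R'ˣ) = 1 :=
  mul_eq_left.1 (by rw [← lamAt_mul, one_mul] : lamAt lam (1 : R'ˣ) * lamAt lam (1 : R'ˣ) = lamAt lam (1 : R'ˣ))

theorem lamAt_inv (t : R'ˣ) : lamAt lam t⁻¹ = (lamAt lam t)⁻¹ :=
  eq_inv_of_mul_eq_one_left (by rw [← lamAt_mul, inv_mul_cancel, lamAt_one])

/-- Conjugation by λ(t). -/
noncomputable def conjAt (t : R'ˣ) : WithConv (A →ₐ[k] R') →* WithConv (A →ₐ[k] R') :=
  (MulAut.conj (lamAt lam t)).toMonoidHom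

theorem conjAt_apply (t : R'ˣ) (g : WithConv (A →ₐ[k] R')) :
    conjAt lam t g = lamAt lam t * g * (lamAt lam t)⁻¹ := rfl

theorem conjAt_mul (s t : R'ˣ) (g : WithConv (A →ₐ[k] R')) :
    conjAt lam (s * t) g = conjAt lam s (conjAt lam t g) := by
  simp only [conjAt_apply, lamAt_mul, mul_inv_rev, mul_assoc]

theorem conjAt_one (g : WithConv (A →ₐ[k] R')) : conjAt lam (1 : R'ˣ) g = g := by
  simp [conjAt_apply, lamAt_one]

theorem push_conjAt (ψ : R →ₐ[k] R') (t : Rˣ) (g : WithConv (A →ₐ[k] R)) :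
    push ψ (conjAt lam t g) = conjAt lam (Units.map ψ.toRingHom.toMonoidHom t) (push ψ g) := by
  simp only [conjAt_apply, map_mul, map_inv, push_lamAt]

variable (R) in
/-- The orbit map on groups of points. -/
noncomputable def orbit : WithConv (A →ₐ[k] R) →* WithConv (A →ₐ[k] R[T;T⁻¹]) :=
  (conjAt lam (unitT R)).comp (push (IsScalarTower.toAlgHom k R R[T;T⁻¹]))

theorem lamR_eq : toConv (Dyn.lamR k A lam R) = lamAt lam (unitT R) := by
  rw [lamAt, Dyn.lamR]
  congr 2
  refine hom_ext fun n r => ?_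
  rw [AddMonoidAlgebra.mapAlgHom_single, ev_single, unitT_zpow, single_eq_C_mul_T]
  rfl

theorem conjOrbit_eq (g : A →ₐ[k] R) :
    toConv (Dyn.conjOrbit k A lam R g) = orbit R lam (toConv g) := by
  rw [Dyn.conjOrbit, conv3_eq, toConv_ofConv]
  show _ = lamAt lam (unitT R) * push (IsScalarTower.toAlgHom k R R[T;T⁻¹]) (toConv g) * (lamAt lam (unitT R))⁻¹
  rw [← lamR_eq, push_toConv, inv_def]

theorem conjOrbit_def (g : A →ₐ[k] R) :
    Dyn.conjOrbit k A lam R g = (orbit R lam (toConv g)).ofConv := by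
  rw [← conjOrbit_eq]

/-- Specialising the variable of the orbit. -/
theorem ev_orbit (φ : R →ₐ[k] R') (t : R'ˣ) (g : WithConv (A →ₐ[k] R)) :
    push (ev φ t) (orbit R lam g) = conjAt lam t (push φ g) := by
  show push (ev φ t) (conjAt lam (unitT R) (push _ g)) = _
  rw [push_conjAt]
  congr 1
  · congr 1
    ext
    show ev φ t (T 1) = t
    rw [ev_T, zpow_one]
  · apply WithConv.ext
    apply AlgHom.ext
    intro a
    exact ev_const φ t (g.ofConv a)

theorem mapAlgHom_eq_ev (φ : R →ₐ[k] R') :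
    AddMonoidAlgebra.mapAlgHom ℤ φ = ev ((IsScalarTower.toAlgHom k R' R'[T;T⁻¹]).comp φ) (unitT R') := by
  refine hom_ext fun n r => ?_
  rw [AddMonoidAlgebra.mapAlgHom_single, ev_single, unitT_zpow, single_eq_C_mul_T]
  rfl

/-- Naturality of the orbit. -/
theorem map_orbit (φ : R →ₐ[k] R') (g : WithConv (A →ₐ[k] R)) :
    push (AddMonoidAlgebra.mapAlgHom ℤ φ) (orbit R lam g) = orbit R' lam (push φ g) := by
  rw [mapAlgHom_eq_ev, ev_orbit]
  rfl

variable (R k) in
/-- Polynomials inside Laurent polynomials. -/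
noncomputable abbrev toL : Polynomial R →ₐ[k] R[T;T⁻¹] :=
  (Polynomial.toLaurentAlg (R := R)).restrictScalars k

theorem toL_injective : Function.Injective (toL k R) := Polynomial.toLaurent_injective

variable (R k) in
/-- Evaluation at zero. -/
noncomputable abbrev ev0 : Polynomial R →ₐ[k] R :=
  (Polynomial.aeval (R := R) (0 : R)).restrictScalars k

theorem limExists_iff (g : A →ₐ[k] R) : Dyn.LimExists k A lam R g ↔
    ∃ h : WithConv (A →ₐ[k] Polynomial R), push (toL k R) h = orbit R lam (toConv g) := by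
  unfold Dyn.LimExists
  rw [conjOrbit_def]
  constructor
  · rintro ⟨h, hh⟩
    exact ⟨toConv h, WithConv.ext hh⟩
  · rintro ⟨h, hh⟩
    exact ⟨h.ofConv, congrArg WithConv.ofConv hh⟩

theorem limIsOne_iff (g : A →ₐ[k] R) : Dyn.LimIsOne k A lam R g ↔
    ∃ h : WithConv (A →ₐ[k] Polynomial R),
      push (toL k R) h = orbit R lam (toConv g) ∧ push (ev0 k R) h = 1 := by
  unfold Dyn.LimIsOne
  rw [conjOrbit_def]
  constructor
  · rintro ⟨h, hh, h0⟩
    exact ⟨toConv h, WithConv.ext hh, WithConv.ext h0⟩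
  · rintro ⟨h, hh, h0⟩
    exact ⟨h.ofConv, congrArg WithConv.ofConv hh, congrArg WithConv.ofConv h0⟩

/-- The weight n component of the universal orbit. -/
noncomputable def coef (n : ℤ) (a : A) : A := (Dyn.conjOrbit k A lam A (AlgHom.id k A) a).coeff n

theorem orbit_coeff (g : A →ₐ[k] R) (n : ℤ) (a : A) :
    ((orbit R lam (toConv g)).ofConv a).coeff n = g (coef lam n a) := by
  have h := map_orbit lam g (toConv (AlgHom.id k A))
  rw [show push g (toConv (AlgHom.id k A)) = toConv g from rfl] at h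
  rw [show orbit R lam (toConv g) = push (AddMonoidAlgebra.mapAlgHom ℤ g) (orbit A lam (toConv (AlgHom.id k A))) from h.symm, coef, conjOrbit_def]
  exact AddMonoidAlgebra.coeff_mapAlgHom g _ n

theorem toLaurent_coeff_neg (p : Polynomial R) {n : ℤ} (hn : n < 0) :
    (Polynomial.toLaurent p).coeff n = 0 := by
  induction p using Polynomial.induction_on' with
  | add p q hp hq => rw [map_add, AddMonoidAlgebra.coeff_add, Finsupp.add_apply, hp, hq, add_zero]
  | monomial m r =>
    rw [← Polynomial.C_mul_X_pow_eq_monomial, Polynomial.toLaurent_C_mul_X_pow,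
      ← single_eq_C_mul_T, AddMonoidAlgebra.coeff_single, Finsupp.single_apply, if_neg (by omega)]

theorem toLaurent_coeff_zero (p : Polynomial R) :
    (Polynomial.toLaurent p).coeff (0 : ℤ) = p.coeff 0 := by
  induction p using Polynomial.induction_on' with
  | add p q hp hq => rw [map_add, AddMonoidAlgebra.coeff_add, Finsupp.add_apply, hp, hq, Polynomial.coeff_add]
  | monomial m r =>
    rw [← Polynomial.C_mul_X_pow_eq_monomial, Polynomial.toLaurent_C_mul_X_pow,
      ← single_eq_C_mul_T, AddMonoidAlgebra.coeff_single, Finsupp.single_apply,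
      Polynomial.coeff_C_mul_X_pow]
    exact if_congr ⟨fun h => by omega, fun h => by omega⟩ rfl rfl

theorem mem_range_toLaurent {f : R[T;T⁻¹]} (hf : ∀ n < 0, f.coeff n = 0) :
    ∃ p : Polynomial R, Polynomial.toLaurent p = f := by
  refine ⟨∑ n ∈ f.coeff.support, Polynomial.C (f.coeff n) * Polynomial.X ^ n.toNat, ?_⟩
  have h : ∀ n ∈ f.coeff.support, Polynomial.toLaurent (Polynomial.C (f.coeff n) * Polynomial.X ^ n.toNat) =
      AddMonoidAlgebra.single n (f.coeff n) := by
    intro n hn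
    have : 0 ≤ n := not_lt.1 fun h => (Finsupp.mem_support_iff.1 hn) (hf n h)
    rw [Polynomial.toLaurent_C_mul_X_pow, Int.toNat_of_nonneg this, single_eq_C_mul_T]
  rw [map_sum, Finset.sum_congr rfl h]
  exact AddMonoidAlgebra.sum_coeff_single f

theorem limExists_iff_coef (g : A →ₐ[k] R) :
    Dyn.LimExists k A lam R g ↔ ∀ a, ∀ n < (0 : ℤ), g (coef lam n a) = 0 := by
  rw [limExists_iff]
  constructor
  · rintro ⟨h, hh⟩ a n hn
    rw [← orbit_coeff lam g n a, ← hh]
    exact toLaurent_coeff_neg _ hn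
  · intro hz
    have hm : ∀ a, (orbit R lam (toConv g)).ofConv a ∈ (toL k R).range := fun a =>
      mem_range_toLaurent (fun n hn => by rw [orbit_coeff]; exact hz a n hn)
    refine ⟨toConv ((AlgEquiv.ofInjective (toL k R) toL_injective).symm.toAlgHom.comp
      ((orbit R lam (toConv g)).ofConv.codRestrict _ hm)), ?_⟩
    apply WithConv.ext
    apply AlgHom.ext
    intro a
    exact congrArg Subtype.val ((AlgEquiv.ofInjective (toL k R) toL_injective).apply_symm_apply
      ⟨(orbit R lam (toConv g)).ofConv a, hm a⟩)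

theorem ev0_eq_coef (g : A →ₐ[k] R) {h : WithConv (A →ₐ[k] Polynomial R)}
    (hh : push (toL k R) h = orbit R lam (toConv g)) (a : A) :
    (push (ev0 k R) h).ofConv a = g (coef lam 0 a) := by
  rw [← orbit_coeff lam g 0 a, ← hh]
  show (Polynomial.aeval (0 : R)) (h.ofConv a) = (Polynomial.toLaurent (h.ofConv a)).coeff (0 : ℤ)
  rw [toLaurent_coeff_zero, Polynomial.coeff_zero_eq_aeval_zero]

theorem limIsOne_iff_coef (g : A →ₐ[k] R) :
    Dyn.LimIsOne k A lam R g ↔ (∀ a, ∀ n < (0 : ℤ), g (coef lam n a) = 0) ∧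
      ∀ a, g (coef lam 0 a - algebraMap k A (CoalgebraStruct.counit a)) = 0 := by
  rw [← limExists_iff_coef, limExists_iff, limIsOne_iff]
  constructor
  · rintro ⟨h, hh, h0⟩
    refine ⟨⟨h, hh⟩, fun a => ?_⟩
    rw [map_sub, ← ev0_eq_coef lam g hh a, h0, AlgHom.commutes, sub_eq_zero]
    exact AlgHom.convOne_apply a
  · rintro ⟨⟨h, hh⟩, h0⟩
    refine ⟨h, hh, ?_⟩
    apply WithConv.ext
    apply AlgHom.ext
    intro a
    rw [ev0_eq_coef lam g hh a]
    refine Eq.trans ?_ (AlgHom.convOne_apply a).symm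
    rw [← sub_eq_zero, ← g.commutes, ← map_sub]
    exact h0 a

/-- The ideal of P(λ). -/
noncomputable def idealP : Ideal A :=
  Ideal.span {x | ∃ a n, n < (0 : ℤ) ∧ x = coef lam n a}

/-- The ideal of U(λ). -/
noncomputable def idealU : Ideal A :=
  idealP lam ⊔ Ideal.span (Set.range fun a => coef lam 0 a - algebraMap k A (CoalgebraStruct.counit a))

theorem represents_idealP :
    Dyn.Represents k A (idealP lam) (fun R _ _ g => Dyn.LimExists k A lam R g) := by
  intro R _ _ g
  show _ ↔ Dyn.LimExists k A lam R g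
  rw [limExists_iff_coef]
  constructor
  · intro h a n hn
    exact h _ (Ideal.subset_span ⟨a, n, hn, rfl⟩)
  · intro h a ha
    refine (Ideal.span_le (I := RingHom.ker g)).2 ?_ ha
    rintro _ ⟨b, n, hn, rfl⟩
    exact h b n hn

theorem represents_idealU :
    Dyn.Represents k A (idealU lam) (fun R _ _ g => Dyn.LimIsOne k A lam R g) := by
  intro R _ _ g
  show _ ↔ Dyn.LimIsOne k A lam R g
  rw [limIsOne_iff_coef]
  constructor
  · intro h
    exact ⟨fun a n hn => h _ (Ideal.mem_sup_left (Ideal.subset_span ⟨a, n, hn, rfl⟩)),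
      fun a => h _ (Ideal.mem_sup_right (Ideal.subset_span ⟨a, rfl⟩))⟩
  · rintro ⟨h1, h2⟩ a ha
    have : idealU lam ≤ RingHom.ker g := by
      refine sup_le ?_ ?_
      · rw [idealP, Ideal.span_le]
        rintro _ ⟨b, n, hn, rfl⟩
        exact h1 b n hn
      · rw [Ideal.span_le]
        rintro _ ⟨b, rfl⟩
        exact h2 b
    exact this ha

theorem map_comp_comul {C D : Type u} [CommRing C] [Algebra k C] [CommRing D] [Algebra k D]
    (f : A →ₐ[k] C) (g : A →ₐ[k] D) :
    toConv ((Algebra.TensorProduct.map f g).comp (Bialgebra.comulAlgHom k A)) =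
      toConv ((Algebra.TensorProduct.includeLeft : C →ₐ[k] C ⊗[k] D).comp f) *
        toConv ((Algebra.TensorProduct.includeRight : D →ₐ[k] C ⊗[k] D).comp g) := by
  apply WithConv.ext
  apply AlgHom.ext
  intro a
  show _ = (toConv ((Algebra.TensorProduct.includeLeft : C →ₐ[k] C ⊗[k] D).comp f) *
    toConv ((Algebra.TensorProduct.includeRight : D →ₐ[k] C ⊗[k] D).comp g)) a
  rw [AlgHom.convMul_apply]
  simp only [ofConv_toConv, AlgHom.comp_apply, Bialgebra.comulAlgHom_apply]
  generalize CoalgebraStruct.comul (R := k) a = z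
  induction z using TensorProduct.induction_on with
  | zero => simp
  | add z w hz hw => simp only [map_add, hz, hw]
  | tmul x y => simp

/-- An ideal whose zero locus is a subgroup functor is a Hopf ideal. -/
theorem isHopfIdeal_of_subgroup (J : Ideal A)
    (P : ∀ (R : Type u) [CommRing R] [Algebra k R], Subgroup (WithConv (A →ₐ[k] R)))
    (hP : ∀ (R : Type u) [CommRing R] [Algebra k R] (g : A →ₐ[k] R),
      (∀ a ∈ J, g a = 0) ↔ toConv g ∈ P R) : J.IsHopfIdeal k := by
  let π : A →ₐ[k] A ⧸ J := Ideal.Quotient.mkₐ k J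
  have hπ : ∀ a ∈ J, π a = 0 := fun a ha => Ideal.Quotient.eq_zero_iff_mem.2 ha
  refine { counit_eq_zero := fun x hx => ?_, map_mkQ_comul_eq_zero := ?_, antipode_mem := ?_ }
  · have h := (hP k (1 : WithConv (A →ₐ[k] k)).ofConv).2 (one_mem _) x hx
    have e := AlgHom.convOne_apply (R := k) (A := k) x
    exact (e.symm.trans h : algebraMap k k (CoalgebraStruct.counit x) = 0)
  · intro x hx
    have hl : toConv ((Algebra.TensorProduct.includeLeft : (A ⧸ J) →ₐ[k] (A ⧸ J) ⊗[k] (A ⧸ J)).comp π) ∈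
        P ((A ⧸ J) ⊗[k] (A ⧸ J)) := (hP _ _).1 fun a ha => by
      show (π a) ⊗ₜ[k] (1 : A ⧸ J) = 0
      rw [hπ a ha, zero_tmul]
    have hr : toConv ((Algebra.TensorProduct.includeRight : (A ⧸ J) →ₐ[k] (A ⧸ J) ⊗[k] (A ⧸ J)).comp π) ∈
        P ((A ⧸ J) ⊗[k] (A ⧸ J)) := (hP _ _).1 fun a ha => by
      show (1 : A ⧸ J) ⊗ₜ[k] (π a) = 0
      rw [hπ a ha, tmul_zero]
    have h := mul_mem hl hr
    rw [← map_comp_comul] at h
    exact (hP _ _).2 h x hx
  · intro x hx
    exact Ideal.Quotient.eq_zero_iff_mem.1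
      ((hP (A ⧸ J) (toConv π)⁻¹.ofConv).2 (inv_mem ((hP _ π).1 hπ)) x hx)

variable (R) in
/-- P(λ)(R). -/
noncomputable def subP : Subgroup (WithConv (A →ₐ[k] R)) :=
  (push (toL k R)).range.comap (orbit R lam)

variable (R) in
/-- U(λ)(R). -/
noncomputable def subU : Subgroup (WithConv (A →ₐ[k] R)) :=
  ((push (ev0 k R)).ker.map (push (toL k R))).comap (orbit R lam)

theorem isHopfIdeal_idealP : (idealP lam).IsHopfIdeal k :=
  isHopfIdeal_of_subgroup _ (fun R _ _ => subP R lam) fun R _ _ g => by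
    refine (represents_idealP lam R g).trans ((limExists_iff lam g).trans ?_)
    exact MonoidHom.mem_range.symm

theorem isHopfIdeal_idealU : (idealU lam).IsHopfIdeal k :=
  isHopfIdeal_of_subgroup _ (fun R _ _ => subU R lam) fun R _ _ g => by
    refine (represents_idealU lam R g).trans ((limIsOne_iff lam g).trans ?_)
    constructor
    · rintro ⟨h, h1, h2⟩; exact ⟨h, h2, h1⟩
    · rintro ⟨h, h2, h1⟩; exact ⟨h, h1, h2⟩

end Groth.Agent.DynLib
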