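/-
Matrices with weights: big cell decomposition and stabilisation of graded subspaces.
-/
import Mathlib.LinearAlgebra.Matrix.Block
import Mathlib.LinearAlgebra.Matrix.NonsingularInverse

set_option autoImplicit false

universe u

open Matrix

namespace Groth.Agent.DynLib

variable {R : Type u} [CommRing R] {ι : Type*} [Fintype ι] [DecidableEq ι] (w : ι → ℤ)

/-- Weights do not decrease. -/
def IsUp (M : Matrix ι ι R) : Prop := ∀ i j, w i < w j → M i j = 0

/-- Weights decrease strictly. -/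
def IsLowS (M : Matrix ι ι R) : Prop := ∀ i j, w j ≤ w i → M i j = 0

/-- Unipotent and weights decrease. -/
def IsLow1 (M : Matrix ι ι R) : Prop := ∀ i j, w j ≤ w i → M i j = (1 : Matrix ι ι R) i j

/-- Commutes with the weights. -/
def IsWt (M : Matrix ι ι R) : Prop := ∀ i j, w i ≠ w j → M i j = 0

variable {w}

theorem IsWt.isUp {M : Matrix ι ι R} (h : IsWt w M) : IsUp w M := fun i j hij => h i j hij.ne

theorem isWt_one : IsWt w (1 : Matrix ι ι R) := fun i j h => Matrix.one_apply_ne fun e => h (e ▸ rfl)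

theorem IsWt.one_sub {M : Matrix ι ι R} (h : IsWt w M) : IsWt w (1 - M) := fun i j hij => by
  rw [Matrix.sub_apply, h i j hij, isWt_one i j hij, sub_zero]

theorem IsUp.add {M N : Matrix ι ι R} (hM : IsUp w M) (hN : IsUp w N) : IsUp w (M + N) :=
  fun i j h => by rw [Matrix.add_apply, hM i j h, hN i j h, add_zero]

theorem IsUp.mul {M N : Matrix ι ι R} (hM : IsUp w M) (hN : IsUp w N) : IsUp w (M * N) := by
  intro i j h
  rw [Matrix.mul_apply]
  refine Finset.sum_eq_zero fun c _ => ?_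
  rcases lt_or_ge (w i) (w c) with h1 | h1
  · rw [hM i c h1, zero_mul]
  · rw [hN c j (lt_of_le_of_lt h1 h), mul_zero]

theorem IsUp.inv {M : Matrix ι ι R} (hM : IsUp w M) (h : IsUnit M.det) : IsUp w M⁻¹ := by
  letI := M.invertibleOfIsUnitDet h
  have hb : BlockTriangular M (fun i => - w i) := fun i j hij => hM i j (by simpa using hij)
  intro i j hij
  exact blockTriangular_inv_of_blockTriangular hb (show - w j < - w i by omega)

theorem IsLowS.wt_mul {D N : Matrix ι ι R} (hD : IsWt w D) (hN : IsLowS w N) : IsLowS w (D * N) := by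
  intro i j h
  rw [Matrix.mul_apply]
  refine Finset.sum_eq_zero fun c _ => ?_
  rcases eq_or_ne (w i) (w c) with h1 | h1
  · rw [hN c j (h1 ▸ h), mul_zero]
  · rw [hD i c h1, zero_mul]

theorem IsLowS.mul_wt {D N : Matrix ι ι R} (hN : IsLowS w N) (hD : IsWt w D) : IsLowS w (N * D) := by
  intro i j h
  rw [Matrix.mul_apply]
  refine Finset.sum_eq_zero fun c _ => ?_
  rcases eq_or_ne (w c) (w j) with h1 | h1
  · rw [hN i c (h1.symm ▸ h), zero_mul]
  · rw [hD c j h1, mul_zero]

theorem IsLow1.sub_one {M : Matrix ι ι R} (h : IsLow1 w M) : IsLowS w (M - 1) := fun i j hij => by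
  rw [Matrix.sub_apply, h i j hij, sub_self]

theorem IsLowS.one_add {M : Matrix ι ι R} (h : IsLowS w M) : IsLow1 w (1 + M) := fun i j hij => by
  rw [Matrix.add_apply, h i j hij, add_zero]

theorem IsLowS.mul_low1 {N L : Matrix ι ι R} (hN : IsLowS w N) (hL : IsLow1 w L) : IsLowS w (N * L) := by
  intro i j h
  rw [Matrix.mul_apply]
  refine Finset.sum_eq_zero fun c _ => ?_
  rcases le_or_gt (w c) (w i) with h1 | h1
  · rw [hN i c h1, zero_mul]
  · rw [hL c j (h.trans h1.le), Matrix.one_apply_ne (by rintro rfl; exact (not_le.2 h1) h), mul_zero]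

theorem IsLow1.det {L : Matrix ι ι R} (hL : IsLow1 w L) : L.det = 1 := by
  have hb : BlockTriangular L w := fun i j hij => by
    rw [hL i j hij.le, Matrix.one_apply_ne]
    rintro rfl
    exact lt_irrefl _ hij
  rw [hb.det]
  refine Finset.prod_eq_one fun a _ => ?_
  have : L.toSquareBlock w a = 1 := by
    ext ⟨i, hi⟩ ⟨j, hj⟩
    show L i j = _
    rw [hL i j (by rw [hi, hj]), Matrix.one_apply, Matrix.one_apply]
    exact if_congr Subtype.mk_eq_mk.symm rfl rfl
  rw [this, Matrix.det_one]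

theorem IsLow1.isUnit_det {L : Matrix ι ι R} (hL : IsLow1 w L) : IsUnit L.det := by
  rw [hL.det]; exact isUnit_one

theorem IsLow1.inv {L : Matrix ι ι R} (hL : IsLow1 w L) : IsLow1 w L⁻¹ := by
  letI := L.invertibleOfIsUnitDet hL.isUnit_det
  have hb : BlockTriangular L w := fun i j hij => by
    rw [hL i j hij.le, Matrix.one_apply_ne]
    rintro rfl
    exact lt_irrefl _ hij
  have hbi := blockTriangular_inv_of_blockTriangular hb
  intro i j h
  have e := congrFun (congrFun (Matrix.nonsing_inv_mul L hL.isUnit_det) i) j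
  rw [Matrix.mul_apply, Finset.sum_eq_single j] at e
  · rwa [hL j j le_rfl, Matrix.one_apply_eq, mul_one] at e
  · intro c _ hc
    rcases lt_or_ge (w c) (w i) with h1 | h1
    · rw [hbi h1, zero_mul]
    · rw [hL c j (h.trans h1), Matrix.one_apply_ne hc, mul_zero]
  · simp

theorem isUp_isLowS_zero {M : Matrix ι ι R} (h1 : IsUp w M) (h2 : IsLowS w M) : M = 0 := by
  ext i j
  rcases lt_or_ge (w i) (w j) with h | h
  · exact h1 i j h
  · exact h2 i j h

/-- If g = L U stabilises a graded subspace then so does U. -/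
theorem stab_up {P g gi L U : Matrix ι ι R} (hP : IsWt w P) (hP2 : P * P = P)
    (hg : (1 - P) * g * P = 0) (hgi : (1 - P) * gi * P = 0) (hggi : g * gi = 1)
    (hL : IsLow1 w L) (hU : IsUp w U) (e : g = L * U) : (1 - P) * U * P = 0 := by
  obtain ⟨Q, hQ⟩ : ∃ Q, Q = 1 - P := ⟨_, rfl⟩
  rw [← hQ] at hg hgi ⊢
  have hPQ : P * Q = 0 := by rw [hQ, Matrix.mul_sub, Matrix.mul_one, hP2, sub_self]
  have hQP : Q * P = 0 := by rw [hQ, Matrix.sub_mul, Matrix.one_mul, hP2, sub_self]
  have hQQ : Q * Q = Q := by rw [hQ, Matrix.sub_mul, Matrix.one_mul, ← hQ, hPQ, sub_zero]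
  have hQwt : IsWt w Q := hQ ▸ hP.one_sub
  have hPQ1 : P + Q = 1 := by rw [hQ]; abel
  have hgP : g * P = P * (g * P) := by
    conv_lhs => rw [← Matrix.one_mul (g * P), ← hPQ1, Matrix.add_mul, ← Matrix.mul_assoc Q, hg, add_zero]
  have hgiP : gi * P = P * (gi * P) := by
    conv_lhs => rw [← Matrix.one_mul (gi * P), ← hPQ1, Matrix.add_mul, ← Matrix.mul_assoc Q, hgi, add_zero]
  have hN : IsLowS w (L⁻¹ - 1) := hL.inv.sub_one
  obtain ⟨N, hNdef⟩ : ∃ N, N = L⁻¹ - 1 := ⟨_, rfl⟩
  rw [← hNdef] at hN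
  obtain ⟨a, ha⟩ : ∃ a, a = 1 + P * N * P := ⟨_, rfl⟩
  have ha1 : IsLow1 w a := ha ▸ ((hN.wt_mul hP).mul_wt hP).one_add
  obtain ⟨G, hG⟩ : ∃ G, G = P * (g * P) + Q := ⟨_, rfl⟩
  obtain ⟨G', hG'⟩ : ∃ G', G' = P * (gi * P) + Q := ⟨_, rfl⟩
  have hGG : G * G' = 1 := by
    rw [hG, hG', ← hgP, ← hgiP, Matrix.mul_add, Matrix.add_mul, Matrix.add_mul, hQQ]
    rw [show g * P * (gi * P) = g * (gi * P) by rw [Matrix.mul_assoc g P, ← hgiP],
      show Q * (gi * P) = 0 by rw [← Matrix.mul_assoc, hgi],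
      show g * P * Q = 0 by rw [Matrix.mul_assoc, hPQ, Matrix.mul_zero],
      ← Matrix.mul_assoc g gi, hggi, Matrix.one_mul, add_zero, zero_add, hPQ1]
  have hPG : P * G = P * (g * P) := by
    rw [hG, Matrix.mul_add, ← Matrix.mul_assoc P P, hP2, hPQ, add_zero]
  have hUP : U * P = g * P + N * (P * (g * P)) := by
    rw [e, ← Matrix.mul_assoc P, show L * U = g from e.symm, Matrix.mul_assoc P, ← hgP, hNdef, Matrix.sub_mul,
      Matrix.one_mul, add_sub_cancel]
    rw [e, ← Matrix.mul_assoc L⁻¹, ← Matrix.mul_assoc L⁻¹, Matrix.nonsing_inv_mul L hL.isUnit_det,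
      Matrix.one_mul]
  have hX : Q * U * P = Q * N * P * G := by
    rw [Matrix.mul_assoc Q U, hUP, Matrix.mul_add, ← Matrix.mul_assoc Q g, hg, zero_add,
      Matrix.mul_assoc (Q * N), hPG, ← Matrix.mul_assoc Q N]
  have hq : a * G = P * U * P + Q := by
    rw [ha, Matrix.add_mul, Matrix.one_mul, Matrix.mul_assoc (P * N), hPG, Matrix.mul_assoc P U, hUP,
      Matrix.mul_add P, ← Matrix.mul_assoc P N, hG]
    abel
  have hqdet : IsUnit (a * G).det := by
    rw [Matrix.det_mul]
    exact ha1.isUnit_det.mul (IsUnit.of_mul_eq_one _ (by rw [← Matrix.det_mul, hGG, Matrix.det_one]))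
  have hqup : IsUp w (a * G) := by rw [hq]; exact ((hP.isUp.mul hU).mul hP.isUp).add hQwt.isUp
  have hlow : IsLowS w (Q * N * P * a⁻¹) := ((hN.wt_mul hQwt).mul_wt hP).mul_low1 ha1.inv
  have hup : Q * N * P * a⁻¹ = Q * U * P * (a * G)⁻¹ := by
    rw [hX, Matrix.mul_inv_rev, Matrix.mul_assoc (Q * N * P) G, ← Matrix.mul_assoc G,
      Matrix.mul_nonsing_inv G (IsUnit.of_mul_eq_one _ (by rw [← Matrix.det_mul, hGG, Matrix.det_one])),
      Matrix.one_mul]
  have h0 : Q * N * P * a⁻¹ = 0 :=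
    isUp_isLowS_zero (hup ▸ (((hQwt.isUp.mul hU).mul hP.isUp).mul (hqup.inv hqdet))) hlow
  have h1 := congrArg (fun Z => Z * a) h0
  simp only [Matrix.mul_assoc (Q * N * P), Matrix.nonsing_inv_mul a ha1.isUnit_det, Matrix.mul_one,
    Matrix.zero_mul] at h1
  rw [hX, h1, Matrix.zero_mul]

/-- The block of weights ≥ m, completed by the identity. -/
def corner (w : ι → ℤ) (m : ℤ) (M : Matrix ι ι R) : Matrix ι ι R :=
  fun i j => if m ≤ w i ∧ m ≤ w j then M i j else (1 : Matrix ι ι R) i j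

theorem corner_one (m : ℤ) : corner w m (1 : Matrix ι ι R) = 1 := by
  ext i j; unfold corner; split_ifs <;> rfl

theorem corner_mul (m : ℤ) {X Y : Matrix ι ι R} (hY : IsUp w Y) :
    corner w m (X * Y) = corner w m X * corner w m Y := by
  ext i j
  rw [Matrix.mul_apply]
  by_cases hi : m ≤ w i
  · by_cases hj : m ≤ w j
    · rw [show corner w m (X * Y) i j = (X * Y) i j from if_pos ⟨hi, hj⟩, Matrix.mul_apply]
      refine Finset.sum_congr rfl fun c _ => ?_
      by_cases hc : m ≤ w c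
      · rw [show corner w m X i c = X i c from if_pos ⟨hi, hc⟩,
          show corner w m Y c j = Y c j from if_pos ⟨hc, hj⟩]
      · rw [hY c j (lt_of_lt_of_le (not_le.1 hc) hj), mul_zero,
          show corner w m Y c j = (1 : Matrix ι ι R) c j from if_neg (fun h => hc h.1),
          Matrix.one_apply_ne (by rintro rfl; exact hc hj), mul_zero]
    · have e : ∀ (Z : Matrix ι ι R) c, corner w m Z c j = (1 : Matrix ι ι R) c j :=
        fun Z c => if_neg (fun h => hj h.2)
      simp only [e]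
      rw [← Matrix.mul_apply, Matrix.mul_one, e]
  · have e : ∀ (Z : Matrix ι ι R) c, corner w m Z i c = (1 : Matrix ι ι R) i c :=
      fun Z c => if_neg (fun h => hi h.1)
    simp only [e]
    rw [← Matrix.mul_apply, Matrix.one_mul, e]

theorem IsLow1.corner {L : Matrix ι ι R} (hL : IsLow1 w L) (m : ℤ) : IsLow1 w (corner w m L) := by
  intro i j h
  unfold Groth.Agent.DynLib.corner
  split_ifs
  · exact hL i j h
  · rfl

theorem isUnit_det_corner_mul (m : ℤ) {L U : Matrix ι ι R} (hL : IsLow1 w L) (hU : IsUp w U)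
    (hUd : IsUnit U.det) : IsUnit (corner w m (L * U)).det := by
  rw [corner_mul m hU, Matrix.det_mul, (hL.corner m).det, one_mul]
  refine IsUnit.of_mul_eq_one (corner w m U⁻¹).det ?_
  rw [← Matrix.det_mul, ← corner_mul m (hU.inv hUd), Matrix.mul_nonsing_inv U hUd, corner_one,
    Matrix.det_one]

/-- The big cell: all corners invertible. -/
theorem exists_decomp {M : Matrix ι ι R} (hM : IsUnit M.det)
    (hc : ∀ j, IsUnit (corner w (w j) M).det) :
    ∃ L U : Matrix ι ι R, IsLow1 w L ∧ IsUp w U ∧ IsUnit U.det ∧ M = L * U := by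
  let Y : Matrix ι ι R := fun c j => if w j ≤ w c then (corner w (w j) M)⁻¹ c j else 0
  have hY : IsUp w Y := fun c j h => if_neg (not_le.2 h)
  have hL : IsLow1 w (M * Y) := by
    intro i j h
    rw [Matrix.mul_apply, ← Matrix.mul_nonsing_inv (corner w (w j) M) (hc j), Matrix.mul_apply]
    refine Finset.sum_congr rfl fun c _ => ?_
    by_cases hjc : w j ≤ w c
    · rw [show Y c j = (corner w (w j) M)⁻¹ c j from if_pos hjc,
        show corner w (w j) M i c = M i c from if_pos ⟨h, hjc⟩]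
    · rw [show Y c j = 0 from if_neg hjc, mul_zero,
        show corner w (w j) M i c = (1 : Matrix ι ι R) i c from if_neg (fun e => hjc e.2),
        Matrix.one_apply_ne (by rintro rfl; exact hjc h), zero_mul]
  have hYd : IsUnit Y.det := by
    refine IsUnit.of_mul_eq_one M.det ?_
    rw [mul_comm, ← Matrix.det_mul, hL.det]
  exact ⟨M * Y, Y⁻¹, hL, hY.inv hYd, Matrix.isUnit_nonsing_inv_det Y hYd,
    by rw [Matrix.mul_assoc, Matrix.mul_nonsing_inv Y hYd, Matrix.mul_one]⟩

theorem decomp_unique {L U L' U' : Matrix ι ι R} (hL : IsLow1 w L) (hU : IsUp w U) (hL' : IsLow1 w L')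
    (hU' : IsUp w U') (hUd : IsUnit U.det) (e : L * U = L' * U') : L = L' ∧ U = U' := by
  have h : L'⁻¹ * L - 1 = U' * U⁻¹ - 1 := by
    congr 1
    rw [← Matrix.mul_one (L'⁻¹ * L), ← Matrix.mul_nonsing_inv U hUd, Matrix.mul_assoc,
      ← Matrix.mul_assoc L, e, ← Matrix.mul_assoc, ← Matrix.mul_assoc,
      Matrix.nonsing_inv_mul L' hL'.isUnit_det, Matrix.one_mul]
  have hlow : IsLowS w (L'⁻¹ * L - 1) := by
    intro i j hij
    have h1 : L'⁻¹ * L - 1 = (L'⁻¹ - 1) * L + (L - 1) := by rw [Matrix.sub_mul, Matrix.one_mul]; abel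
    rw [h1, Matrix.add_apply, (hL'.inv.sub_one.mul_low1 hL) i j hij, hL.sub_one i j hij, add_zero]
  have hup : IsUp w (L'⁻¹ * L - 1) := by
    rw [h]
    intro i j hij
    rw [Matrix.sub_apply, (hU'.mul (hU.inv hUd)) i j hij, isWt_one.isUp i j hij, sub_zero]
  have h0 := sub_eq_zero.1 (isUp_isLowS_zero hup hlow)
  have hLL : L = L' := by
    rw [← Matrix.one_mul L, ← Matrix.mul_nonsing_inv L' hL'.isUnit_det, Matrix.mul_assoc, h0, Matrix.mul_one]
  subst hLL
  refine ⟨rfl, ?_⟩
  rw [← Matrix.one_mul U, ← Matrix.one_mul U', ← Matrix.nonsing_inv_mul L hL.isUnit_det, Matrix.mul_assoc,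
    Matrix.mul_assoc, e]

end Groth.Agent.DynLib
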