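/-
Limits of orbits: invariance under λ, the opposite parameter, points commuting with λ.
-/
import Groth.Agent.DynLib.Basic

set_option autoImplicit false

universe u

open LaurentPolynomial TensorProduct WithConv

namespace Groth.Agent.DynLib

attribute [local instance] pointsGroup

variable {k : Type u} [CommRing k] {A : Type u} [CommRing A] [HopfAlgebra k A]
variable {R : Type u} [CommRing R] [Algebra k R] {R' : Type u} [CommRing R'] [Algebra k R']
variable (lam : A →ₐc[k] k[T;T⁻¹])

variable (k R) in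
/-- The inclusion of constants. -/
noncomputable abbrev constP : R →ₐ[k] Polynomial R := IsScalarTower.toAlgHom k R (Polynomial R)

variable (k R) in
/-- The substitution X ↦ X T. -/
noncomputable def sigma : Polynomial R →ₐ[k] (Polynomial R)[T;T⁻¹] :=
  (Polynomial.aeval (R := R)
    (LaurentPolynomial.C (Polynomial.X : Polynomial R) * T 1 : (Polynomial R)[T;T⁻¹])).restrictScalars k

theorem sigma_C (r : R) :
    sigma k R (Polynomial.C r) = LaurentPolynomial.C (Polynomial.C r) := by
  simp only [sigma, AlgHom.restrictScalars_apply, Polynomial.aeval_C]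
  rfl

theorem sigma_X :
    sigma k R Polynomial.X = LaurentPolynomial.C (Polynomial.X : Polynomial R) * T 1 := by
  simp [sigma]

theorem mapL_injective {f : R →ₐ[k] R'} (hf : Function.Injective f) :
    Function.Injective (AddMonoidAlgebra.mapAlgHom ℤ f) := by
  intro x y h
  refine AddMonoidAlgebra.ext (Finsupp.ext fun n => hf ?_)
  rw [← AddMonoidAlgebra.coeff_mapAlgHom, ← AddMonoidAlgebra.coeff_mapAlgHom, h]

theorem push_injective {f : R →ₐ[k] R'} (hf : Function.Injective f) :
    Function.Injective (push (A := A) f) := fun x y h =>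
  WithConv.ext (AlgHom.ext fun a =>
    hf (congrArg (fun z : WithConv (A →ₐ[k] R') => z.ofConv a) h))

theorem push_push {R'' : Type u} [CommRing R''] [Algebra k R''] (ψ : R' →ₐ[k] R'') (φ : R →ₐ[k] R')
    (g : WithConv (A →ₐ[k] R)) : push ψ (push φ g) = push (ψ.comp φ) g := rfl

/-- The orbit of the limit point: h(X) is carried to h(X T). -/
theorem orbit_lim {g : A →ₐ[k] R} {h : WithConv (A →ₐ[k] Polynomial R)}
    (hh : push (toL k R) h = orbit R lam (toConv g)) :
    orbit (Polynomial R) lam h = push (sigma k R) h := by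
  apply push_injective (mapL_injective (f := toL k R) toL_injective)
  rw [map_orbit, hh]
  show conjAt lam (unitT R[T;T⁻¹]) (push (IsScalarTower.toAlgHom k R[T;T⁻¹] (R[T;T⁻¹])[T;T⁻¹])
    (orbit R lam (toConv g))) = _
  rw [show push (IsScalarTower.toAlgHom k R[T;T⁻¹] (R[T;T⁻¹])[T;T⁻¹]) (orbit R lam (toConv g)) =
    conjAt lam (Units.map (IsScalarTower.toAlgHom k R[T;T⁻¹] (R[T;T⁻¹])[T;T⁻¹]).toRingHom.toMonoidHom (unitT R))
      (push (IsScalarTower.toAlgHom k R[T;T⁻¹] (R[T;T⁻¹])[T;T⁻¹])
        (push (IsScalarTower.toAlgHom k R R[T;T⁻¹]) (toConv g))) from push_conjAt lam _ _ _]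
  rw [← conjAt_mul]
  simp only [push_push]
  rw [← ev_orbit, ← hh, push_push]
  refine congrArg (fun φ => push φ h) ?_
  refine Polynomial.algHom_ext' ?_ ?_
  · refine AlgHom.ext fun r => ?_
    show ev _ _ (Polynomial.toLaurent (Polynomial.C r)) =
      AddMonoidAlgebra.mapAlgHom ℤ (toL k R) (sigma k R (Polynomial.C r))
    rw [sigma_C, Polynomial.toLaurent_C, ← single_eq_C, ← single_eq_C, ev_single,
      AddMonoidAlgebra.mapAlgHom_single, zpow_zero, Units.val_one, mul_one]
    show _ = AddMonoidAlgebra.single 0 (Polynomial.toLaurent (Polynomial.C r))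
    rw [Polynomial.toLaurent_C, ← single_eq_C]
    rfl
  · show ev _ _ (Polynomial.toLaurent Polynomial.X) =
      AddMonoidAlgebra.mapAlgHom ℤ (toL k R) (sigma k R Polynomial.X)
    rw [sigma_X, Polynomial.toLaurent_X, ev_T, zpow_one, ← single_eq_C_mul_T,
      AddMonoidAlgebra.mapAlgHom_single, single_eq_C_mul_T]
    show _ = LaurentPolynomial.C (Polynomial.toLaurent Polynomial.X) * T 1
    rw [Polynomial.toLaurent_X, Units.val_mul, mul_comm]
    rfl

/-- The limit point commutes with λ. -/
theorem orbit_ev0 {g : A →ₐ[k] R} {h : WithConv (A →ₐ[k] Polynomial R)}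
    (hh : push (toL k R) h = orbit R lam (toConv g)) :
    orbit R lam (push (ev0 k R) h) = push (IsScalarTower.toAlgHom k R R[T;T⁻¹]) (push (ev0 k R) h) := by
  rw [← map_orbit, orbit_lim lam hh, push_push, push_push]
  refine congrArg (fun φ => push φ h) ?_
  refine Polynomial.algHom_ext' ?_ ?_
  · refine AlgHom.ext fun r => ?_
    show AddMonoidAlgebra.mapAlgHom ℤ (ev0 k R) (sigma k R (Polynomial.C r)) =
      algebraMap R R[T;T⁻¹] (Polynomial.aeval (0 : R) (Polynomial.C r))
    rw [sigma_C, ← single_eq_C, AddMonoidAlgebra.mapAlgHom_single]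
    show AddMonoidAlgebra.single 0 (Polynomial.aeval (0 : R) (Polynomial.C r)) = _
    rw [Polynomial.aeval_C]
    rfl
  · show AddMonoidAlgebra.mapAlgHom ℤ (ev0 k R) (sigma k R Polynomial.X) =
      algebraMap R R[T;T⁻¹] (Polynomial.aeval (0 : R) Polynomial.X)
    rw [sigma_X, ← single_eq_C_mul_T, AddMonoidAlgebra.mapAlgHom_single]
    show AddMonoidAlgebra.single 1 (Polynomial.aeval (0 : R) Polynomial.X) = _
    simp

variable {lam} in
theorem lamAt_neg {lamNeg : A →ₐc[k] k[T;T⁻¹]}
    (hneg : (lamNeg : A →ₐ[k] k[T;T⁻¹]) = Dyn.negParam k A lam) (t : R'ˣ) :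
    lamAt lamNeg t = lamAt lam t⁻¹ := by
  rw [lamAt, hneg, Dyn.negParam, ← AlgHom.comp_assoc, lamAt]
  congr 2
  refine hom_ext fun n r => ?_
  show ev (Algebra.ofId k R') t (invert (AddMonoidAlgebra.single n r)) = _
  rw [show (invert (AddMonoidAlgebra.single n r) : k[T;T⁻¹]) = AddMonoidAlgebra.single (-n) r by
      rw [single_eq_C_mul_T, map_mul, invert_C, invert_T, single_eq_C_mul_T],
    ev_single, ev_single, inv_zpow']

variable {lam} in
theorem orbit_neg_coeff {lamNeg : A →ₐc[k] k[T;T⁻¹]}
    (hneg : (lamNeg : A →ₐ[k] k[T;T⁻¹]) = Dyn.negParam k A lam) (g : A →ₐ[k] R) (n : ℤ) (a : A) :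
    g (coef lamNeg n a) = g (coef lam (-n) a) := by
  rw [← orbit_coeff lamNeg g n a, ← orbit_coeff lam g (-n) a, ← invert_apply]
  have e : orbit R lamNeg (toConv g) =
      push ((invert (R := R)).toAlgHom.restrictScalars k) (orbit R lam (toConv g)) := by
    have h1 : ((invert (R := R)).toAlgHom.restrictScalars k) =
        ev (IsScalarTower.toAlgHom k R R[T;T⁻¹]) (unitT R)⁻¹ := by
      refine hom_ext fun n r => ?_
      show invert (AddMonoidAlgebra.single n r) = _
      rw [ev_single, inv_zpow', unitT_zpow, single_eq_C_mul_T, map_mul, invert_C, invert_T]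
      rfl
    rw [h1, ev_orbit]
    show conjAt lamNeg (unitT R) _ = _
    simp only [conjAt_apply, lamAt_neg hneg]
  rw [e]
  rfl

/-- The unit point is the value of the orbit at 1. -/
theorem ev_one_orbit (g : WithConv (A →ₐ[k] R)) :
    push (ev (AlgHom.id k R) (1 : Rˣ)) (orbit R lam g) = g := by
  rw [ev_orbit, conjAt_one]
  rfl

theorem fixed_iff_coef (g : A →ₐ[k] R) :
    Dyn.conjOrbit k A lam R g = (IsScalarTower.toAlgHom k R R[T;T⁻¹]).comp g ↔
      ∀ a, ∀ n ≠ (0 : ℤ), g (coef lam n a) = 0 := by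
  have hι : ∀ r : R, IsScalarTower.toAlgHom k R R[T;T⁻¹] r = AddMonoidAlgebra.single 0 r := fun r => rfl
  rw [conjOrbit_def]
  constructor
  · intro h a n hn
    rw [← orbit_coeff lam g n a, h]
    show (IsScalarTower.toAlgHom k R R[T;T⁻¹] (g a)).coeff n = 0
    rw [hι, AddMonoidAlgebra.coeff_single, Finsupp.single_apply, if_neg hn.symm]
  · intro h
    apply AlgHom.ext
    intro a
    show _ = IsScalarTower.toAlgHom k R R[T;T⁻¹] (g a)
    set f := (orbit R lam (toConv g)).ofConv a with hf
    have hfs : f = AddMonoidAlgebra.single 0 (f.coeff 0) := by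
      refine AddMonoidAlgebra.ext (Finsupp.ext fun n => ?_)
      rw [AddMonoidAlgebra.coeff_single, Finsupp.single_apply]
      split_ifs with h0
      · rw [h0]
      · rw [hf, orbit_coeff]; exact h a n (Ne.symm h0)
    have h1 : ev (AlgHom.id k R) (1 : Rˣ) f = g a :=
      congrArg (fun z : WithConv (A →ₐ[k] R) => z.ofConv a) (ev_one_orbit lam (toConv g))
    rw [hι, hfs]
    congr 1
    rw [hfs, ev_single] at h1
    simpa using h1

end Groth.Agent.DynLib
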