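/-
Faithful representations of weight vectors for a one-parameter subgroup.
-/
import Groth.Agent.DynLib.Limit
import Groth.Agent.HopfFFLib.Stab.Subspace
import Mathlib.LinearAlgebra.Matrix.ToLin
import Mathlib.Algebra.DirectSum.Module
import Mathlib.LinearAlgebra.FiniteDimensional.Basic

set_option autoImplicit false

universe u

open LaurentPolynomial TensorProduct WithConv

namespace Groth.Agent.DynLib

attribute [local instance] pointsGroup

variable {k : Type u} [CommRing k] {A : Type u} [CommRing A] [HopfAlgebra k A]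
variable {R : Type u} [CommRing R] [Algebra k R] {R' : Type u} [CommRing R'] [Algebra k R']
variable (lam : A →ₐc[k] k[T;T⁻¹])

/-- A matrix of weight vectors generating the coordinate ring. -/
structure WeightRep (k : Type u) [CommRing k] {A : Type u} [CommRing A] [HopfAlgebra k A]
    (lam : A →ₐc[k] k[T;T⁻¹]) where
  ι : Type u
  [fintype : Fintype ι]
  [deceq : DecidableEq ι]
  w : ι → ℤ
  t : Matrix ι ι A
  comul : ∀ i j, CoalgebraStruct.comul (R := k) (t i j) = ∑ c, t i c ⊗ₜ[k] t c j
  counit : ∀ i j, CoalgebraStruct.counit (R := k) (t i j) = if i = j then 1 else 0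
  lam_t : ∀ i j, lam (t i j) = if i = j then LaurentPolynomial.T (w i) else 0
  adjoin : Algebra.adjoin k (Set.range fun p : ι × ι => t p.1 p.2) = ⊤

attribute [instance] WeightRep.fintype WeightRep.deceq

variable {lam} (W : WeightRep k lam)

/-- The matrix of a point. -/
def WeightRep.mat (g : WithConv (A →ₐ[k] R)) : Matrix W.ι W.ι R := W.t.map g.ofConv

theorem WeightRep.mat_mul (f g : WithConv (A →ₐ[k] R)) : W.mat (f * g) = W.mat f * W.mat g := by
  ext l j
  show (f * g) (W.t l j) = _
  rw [AlgHom.convMul_apply, W.comul, map_sum, Matrix.mul_apply]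
  simp [WeightRep.mat]

theorem WeightRep.mat_one : W.mat (1 : WithConv (A →ₐ[k] R)) = 1 := by
  ext l j
  show (1 : WithConv (A →ₐ[k] R)) (W.t l j) = _
  rw [AlgHom.convOne_apply, W.counit, Matrix.one_apply]
  simp [apply_ite (algebraMap k R)]

theorem WeightRep.mat_push (φ : R →ₐ[k] R') (g : WithConv (A →ₐ[k] R)) :
    W.mat (push φ g) = (W.mat g).map φ := rfl

theorem WeightRep.mat_isUnit_det (g : WithConv (A →ₐ[k] R)) : IsUnit (W.mat g).det :=
  IsUnit.of_mul_eq_one (W.mat g⁻¹).det (by rw [← Matrix.det_mul, ← W.mat_mul, mul_inv_cancel, W.mat_one, Matrix.det_one])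

theorem WeightRep.mat_inv (g : WithConv (A →ₐ[k] R)) : W.mat g⁻¹ = (W.mat g)⁻¹ :=
  (Matrix.inv_eq_right_inv (by rw [← W.mat_mul, mul_inv_cancel, W.mat_one])).symm

theorem WeightRep.mat_injective : Function.Injective (W.mat (R := R)) := by
  intro f g h
  apply WithConv.ext
  refine AlgHom.ext_of_adjoin_eq_top W.adjoin ?_
  rintro _ ⟨⟨i, j⟩, rfl⟩
  exact congrFun (congrFun h i) j

theorem WeightRep.mat_lamAt (t : R'ˣ) :
    W.mat (lamAt lam t) = Matrix.diagonal fun i => ((t ^ W.w i : R'ˣ) : R') := by
  ext i j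
  show ev (Algebra.ofId k R') t (lam (W.t i j)) = _
  rw [W.lam_t, Matrix.diagonal_apply]
  split_ifs
  · rw [ev_T]
  · rw [map_zero]

theorem WeightRep.mat_orbit (g : WithConv (A →ₐ[k] R)) (i j : W.ι) :
    W.mat (orbit R lam g) i j = LaurentPolynomial.C (W.mat g i j) * T (W.w i - W.w j) := by
  show W.mat (conjAt lam (unitT R) (push _ g)) i j = _
  rw [conjAt_apply, W.mat_mul, W.mat_mul, ← lamAt_inv, W.mat_lamAt, W.mat_lamAt, Matrix.mul_diagonal,
    Matrix.diagonal_mul, W.mat_push, Matrix.map_apply]
  rw [inv_zpow', unitT_zpow, unitT_zpow, sub_eq_add_neg, T_add]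
  show T (W.w i) * LaurentPolynomial.C (W.mat g i j) * T (-W.w j) = _
  ring

variable (k) in
/-- The linear coefficient map. -/
noncomputable def lc (n : ℤ) : k[T;T⁻¹] →ₗ[k] k where
  toFun f := f.coeff n
  map_add' f g := by simp
  map_smul' r f := by simp

theorem lc_single (n m : ℤ) (r : k) : lc k n (AddMonoidAlgebra.single m r) = if m = n then r else 0 := by
  show (AddMonoidAlgebra.single m r : k[T;T⁻¹]).coeff n = _
  rw [AddMonoidAlgebra.coeff_single, Finsupp.single_apply]

theorem lc_lc_comul (m n : ℤ) (f : k[T;T⁻¹]) :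
    TensorProduct.lid k k (TensorProduct.map (lc k m) (lc k n) (CoalgebraStruct.comul (R := k) f)) =
      if m = n then lc k n f else 0 := by
  induction f using LaurentPolynomial.induction_on' with
  | add p q hp hq => simp only [map_add, hp, hq]; split_ifs <;> simp
  | C_mul_T l r =>
    rw [← single_eq_C_mul_T, AddMonoidAlgebra.comul_single]
    simp only [CommSemiring.comul_apply, TensorProduct.map_tmul, AddMonoidAlgebra.lsingle_apply, lc_single,
      TensorProduct.lid_tmul, smul_eq_mul]
    split_ifs <;> (try subst_vars) <;> simp_all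

end Groth.Agent.DynLib

namespace Groth.Agent.DynLib

variable (k : Type u) [Field k] {A : Type u} [CommRing A] [HopfAlgebra k A]

/-- Over a field there is a faithful matrix of weight vectors. -/
theorem exists_weightRep [Algebra.FiniteType k A] (lam : A →ₐc[k] k[T;T⁻¹]) :
    Nonempty (WeightRep k lam) := by
  classical
  obtain ⟨F, hF⟩ := (‹Algebra.FiniteType k A›).out
  obtain ⟨W, hW, hFW, hsub⟩ := HopfFF.exists_finite_subcomod (k := k) F
  let b := Module.finBasis k W
  -- coefficients of the comultiplication on W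
  have hinj : Function.Injective (LinearMap.rTensor A W.subtype) :=
    Module.Flat.rTensor_preserves_injective_linearMap W.subtype W.injective_subtype
  let ρ : W →ₗ[k] W ⊗[k] A :=
    (LinearEquiv.ofInjective (LinearMap.rTensor A W.subtype) hinj).symm.toLinearMap ∘ₗ
      ((CoalgebraStruct.comul (R := k) (A := A)).domRestrict W).codRestrict _ (fun x => hsub x.1 x.2)
  have hρ : ∀ x : W, LinearMap.rTensor A W.subtype (ρ x) = CoalgebraStruct.comul (R := k) (x : A) := by
    intro x
    exact congrArg Subtype.val ((LinearEquiv.ofInjective (LinearMap.rTensor A W.subtype) hinj).apply_symm_apply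
      (((CoalgebraStruct.comul (R := k) (A := A)).domRestrict W).codRestrict _ (fun x => hsub x.1 x.2) x))
  have expand : ∀ {m : Type u} [Fintype m] [DecidableEq m] (e : Module.Basis m k W),
      ∃ t : Matrix m m A, (∀ j, ρ (e j) = ∑ i, e i ⊗ₜ[k] t i j) ∧
        (∀ l j, CoalgebraStruct.comul (R := k) (t l j) = ∑ i, t l i ⊗ₜ[k] t i j) ∧
        (∀ l j, CoalgebraStruct.counit (R := k) (t l j) = if l = j then 1 else 0) ∧
        (W : Set A) ⊆ Submodule.span k (Set.range fun p : m × m => t p.1 p.2) := by
    intro m _ _ e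
    let t : Matrix m m A := fun i j => TensorProduct.equivFinsuppOfBasisLeft e (ρ (e j)) i
    have hexp : ∀ j, ρ (e j) = ∑ i, e i ⊗ₜ[k] t i j := by
      intro j
      conv_lhs => rw [← (TensorProduct.equivFinsuppOfBasisLeft e).symm_apply_apply (ρ (e j))]
      rw [TensorProduct.equivFinsuppOfBasisLeft_symm_apply, Finsupp.sum_fintype _ _ (by simp)]
    have hΔ : ∀ j, CoalgebraStruct.comul (R := k) (e j : A) = ∑ i, (e i : A) ⊗ₜ[k] t i j := by
      intro j
      rw [← hρ, hexp, map_sum]
      rfl
    obtain ⟨π, hπ⟩ := W.subtype.exists_leftInverse_of_injective W.ker_subtype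
    have hπe : ∀ i, π (e i : A) = e i := fun i => LinearMap.congr_fun hπ (e i)
    refine ⟨t, hexp, fun l j => ?_, fun l j => ?_, ?_⟩
    · have h := LinearMap.congr_fun (Coalgebra.coassoc (R := k) (A := A)) (e j : A)
      simp only [LinearMap.comp_apply, LinearEquiv.coe_coe, hΔ, map_sum, LinearMap.rTensor_tmul,
        LinearMap.lTensor_tmul, TensorProduct.sum_tmul, TensorProduct.assoc_tmul] at h
      have h' := congrArg (fun z => TensorProduct.lid k (A ⊗[k] A) ((e.coord l ∘ₗ π).rTensor (A ⊗[k] A) z)) h
      simp only [map_sum, LinearMap.rTensor_tmul, LinearMap.comp_apply, hπe, TensorProduct.lid_tmul,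
        Module.Basis.coord_apply, Module.Basis.repr_self, Finsupp.single_apply, ite_smul, one_smul, zero_smul,
        Finset.sum_ite_eq', Finset.mem_univ, if_true] at h'
      exact h'.symm
    · have h := Coalgebra.lTensor_counit_comul (R := k) (e j : A)
      rw [hΔ, map_sum] at h
      have h' := congrArg (fun z => e.coord l (π (TensorProduct.rid k A z))) h
      simp only [LinearMap.lTensor_tmul, map_sum, TensorProduct.rid_tmul, map_smul, hπe, one_smul,
        Module.Basis.coord_apply, Module.Basis.repr_self, Finsupp.single_apply, smul_eq_mul, mul_ite, mul_one,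
        mul_zero, Finset.sum_ite_eq', Finset.mem_univ, if_true] at h'
      rw [h']
      exact if_congr eq_comm rfl rfl
    · intro a ha
      have h : ∀ x : W, (x : A) ∈ Submodule.span k (Set.range fun p : m × m => t p.1 p.2) := by
        intro x
        rw [← e.sum_repr x, Submodule.coe_sum]
        refine Submodule.sum_mem _ fun j _ => Submodule.smul_mem _ _ ?_
        have h := Coalgebra.rTensor_counit_comul (R := k) (e j : A)
        rw [hΔ, map_sum] at h
        have h' := congrArg (TensorProduct.lid k A) h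
        simp only [LinearMap.rTensor_tmul, map_sum, TensorProduct.lid_tmul, one_smul] at h'
        rw [← h']
        exact Submodule.sum_mem _ fun i _ => Submodule.smul_mem _ _ (Submodule.subset_span ⟨(i, j), rfl⟩)
      exact h ⟨a, ha⟩
  -- the weight projectors
  let f : ℤ → (W →ₗ[k] W) := fun n =>
    (TensorProduct.rid k W).toLinearMap ∘ₗ (lc k n ∘ₗ (lam : A →ₐ[k] k[T;T⁻¹]).toLinearMap).lTensor W ∘ₗ ρ
  have hf : ∀ {m : Type u} [Fintype m] [DecidableEq m] (e : Module.Basis m k W) (t : Matrix m m A),
      (∀ j, ρ (e j) = ∑ i, e i ⊗ₜ[k] t i j) → ∀ n j, f n (e j) = ∑ i, (lam (t i j)).coeff n • e i := by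
    intro m _ _ e t he n j
    simp only [f, LinearMap.comp_apply, he, map_sum, LinearMap.lTensor_tmul, LinearEquiv.coe_coe,
      TensorProduct.rid_tmul]
    rfl
  let e₀ : Module.Basis (ULift.{u} (Fin (Module.finrank k W))) k W := b.reindex Equiv.ulift.symm
  obtain ⟨t₀, he₀, hc₀, hu₀, -⟩ := expand e₀
  have horth : ∀ m n, f m ∘ₗ f n = if m = n then f n else 0 := by
    intro m n
    have hk : ∀ l j, ∑ i, (lam (t₀ l i)).coeff m * (lam (t₀ i j)).coeff n =
        if m = n then (lam (t₀ l j)).coeff n else 0 := by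
      intro l j
      have h := lc_lc_comul m n (lam (t₀ l j))
      rw [show CoalgebraStruct.comul (R := k) (lam (t₀ l j)) =
        Algebra.TensorProduct.map (lam : A →ₐ[k] k[T;T⁻¹]) (lam : A →ₐ[k] k[T;T⁻¹])
          (CoalgebraStruct.comul (t₀ l j)) from (CoalgHomClass.map_comp_comul_apply lam (t₀ l j)).symm, hc₀] at h
      simp only [map_sum, Algebra.TensorProduct.map_tmul, TensorProduct.map_tmul, TensorProduct.lid_tmul,
        smul_eq_mul] at h
      exact h
    refine e₀.ext fun j => ?_
    rw [LinearMap.comp_apply, hf e₀ t₀ he₀, map_sum]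
    simp only [map_smul, hf e₀ t₀ he₀, Finset.smul_sum, smul_smul]
    rw [Finset.sum_comm]
    simp only [← Finset.sum_smul, mul_comm ((lam (t₀ _ j)).coeff n), hk]
    split_ifs with h
    · rw [hf e₀ t₀ he₀]
    · simp
  let S : Finset ℤ := Finset.univ.biUnion fun p : ULift.{u} (Fin (Module.finrank k W)) × ULift.{u} (Fin (Module.finrank k W)) =>
    (lam (t₀ p.1 p.2)).coeff.support
  have hcomplete : ∀ x : W, ∑ n ∈ S, f n x = x := by
    have hk : ∀ l j, ∑ n ∈ S, (lam (t₀ l j)).coeff n = if l = j then 1 else 0 := by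
      intro l j
      rw [← hu₀, ← CoalgHomClass.counit_comp_apply lam (t₀ l j)]
      conv_rhs => rw [← AddMonoidAlgebra.sum_coeff_single (lam (t₀ l j))]
      rw [Finsupp.sum, map_sum]
      simp only [AddMonoidAlgebra.counit_single, CommSemiring.counit_apply]
      refine (Finset.sum_subset (fun n hn => ?_) (fun n _ hn => Finsupp.notMem_support_iff.1 hn)).symm
      exact Finset.mem_biUnion.2 ⟨(l, j), Finset.mem_univ _, hn⟩
    have : ∑ n ∈ S, f n = LinearMap.id := by
      refine e₀.ext fun j => ?_
      rw [LinearMap.sum_apply]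
      simp only [hf e₀ t₀ he₀]
      rw [Finset.sum_comm]
      simp [← Finset.sum_smul, hk]
    intro x
    conv_rhs => rw [← LinearMap.id_apply (R := k) x, ← this, LinearMap.sum_apply]
  let V : S → Submodule k W := fun n => LinearMap.range (f n)
  have hVmem : ∀ (n : S) x, x ∈ V n → f n x = x := by
    rintro n _ ⟨y, rfl⟩
    rw [← LinearMap.comp_apply, horth, if_pos rfl]
  have hint : DirectSum.IsInternal V := by
    rw [DirectSum.isInternal_submodule_iff_iSupIndep_and_iSup_eq_top]
    refine ⟨iSupIndep_def.2 fun n => ?_, ?_⟩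
    · rw [Submodule.disjoint_def]
      intro x hx hx'
      have hle : (⨆ (m : S) (_ : m ≠ n), V m) ≤ LinearMap.ker (f n) := by
        refine iSup₂_le fun m hm => ?_
        rintro _ ⟨y, rfl⟩
        rw [LinearMap.mem_ker, ← LinearMap.comp_apply, horth, if_neg (fun h => hm (Subtype.ext h.symm)),
          LinearMap.zero_apply]
      rw [← hVmem n x hx]
      exact LinearMap.mem_ker.1 (hle hx')
    · rw [eq_top_iff]
      intro x _
      rw [← hcomplete x]
      exact Submodule.sum_mem _ fun n hn => Submodule.mem_iSup_of_mem ⟨n, hn⟩ ⟨x, rfl⟩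
  haveI hfree : ∀ n, Module.Free k (V n) := fun n => Module.Free.of_divisionRing k ↥(V n)
  let eS := hint.collectedBasis (fun n => Module.finBasis k (V n))
  let e := eS.reindex (Equiv.ulift.{u}.symm)
  let w : ULift.{u} (Σ n : S, Fin (Module.finrank k (V n))) → ℤ := fun i => (i.down.1 : ℤ)
  have hew : ∀ n i, f n (e i) = if n = w i then e i else 0 := by
    intro n i
    have hmem : e i ∈ V i.down.1 := by
      rw [Module.Basis.reindex_apply]
      exact hint.collectedBasis_mem _ _
    rw [← hVmem _ _ hmem, ← LinearMap.comp_apply, horth]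
    by_cases h1 : n = w i
    · rw [if_pos h1, if_pos h1]
    · rw [if_neg h1, if_neg h1, LinearMap.zero_apply]
  obtain ⟨t, he, hc, hu, hspan⟩ := expand e
  refine ⟨⟨_, w, t, hc, hu, fun i j => ?_, ?_⟩⟩
  · refine AddMonoidAlgebra.ext (Finsupp.ext fun n => ?_)
    have h := congrArg (fun x => e.coord i x) ((hf e t he n j).symm.trans (hew n j))
    simp only [map_sum, map_smul, Module.Basis.coord_apply, Module.Basis.repr_self, Finsupp.single_apply,
      smul_eq_mul, mul_ite, mul_one, mul_zero, Finset.sum_ite_eq', Finset.mem_univ, if_true, apply_ite,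
      map_zero] at h
    rcases eq_or_ne i j with rfl | hij
    · rcases eq_or_ne n (w i) with rfl | hn
      · rw [if_pos rfl, if_pos rfl] at h
        rw [if_pos rfl, h, T_apply, if_pos rfl]
      · rw [if_neg hn] at h
        rw [if_pos rfl, h, T_apply, if_neg hn.symm]
    · have h0 : (lam (t i j)).coeff n = 0 := by
        rcases eq_or_ne n (w j) with hn | hn
        · rw [if_pos hn, if_neg hij.symm] at h; exact h
        · rw [if_neg hn] at h; exact h
      rw [if_neg hij, h0]
      rfl
  · rw [eq_top_iff, ← hF]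
    refine Algebra.adjoin_le fun a ha => ?_
    exact Algebra.span_le_adjoin k _ (hspan (hFW a ha))

end Groth.Agent.DynLib
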