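/-
The open cell U(-λ) × P(λ) in an affine group over a field.
-/
import Groth.Agent.DynLib.Matrix
import Groth.Agent.DynLib.WeightRep
import Mathlib.RingTheory.MvPolynomial.Basic
import Mathlib.RingTheory.Polynomial.Basic
import Mathlib.Data.Finsupp.Weight

set_option autoImplicit false

universe u

open LaurentPolynomial TensorProduct WithConv MvPolynomial

namespace Groth.Agent.DynLib

section subst

variable {n : Type u} [Fintype n] [DecidableEq n] {R : Type u} [CommRing R] (w : n → ℤ)

/-- Right translation of polynomials in matrix entries. -/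
noncomputable def tau (M : Matrix n n R) : MvPolynomial (n × n) R →ₐ[R] MvPolynomial (n × n) R :=
  aeval fun p => ∑ c, MvPolynomial.C (M c p.2) * X (p.1, c)

theorem tau_comp (M N : Matrix n n R) : (tau M).comp (tau N) = tau (M * N) := by
  refine MvPolynomial.algHom_ext fun p => ?_
  simp only [tau, AlgHom.comp_apply, aeval_X, map_sum, map_mul, aeval_C, Matrix.mul_apply,
    MvPolynomial.algebraMap_eq, Finset.mul_sum, Finset.sum_mul]
  rw [Finset.sum_comm]
  refine Finset.sum_congr rfl fun c _ => Finset.sum_congr rfl fun d _ => ?_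
  ring

theorem tau_one : tau (1 : Matrix n n R) = AlgHom.id R _ := by
  refine MvPolynomial.algHom_ext fun p => ?_
  simp [tau, Matrix.one_apply, apply_ite (MvPolynomial.C (σ := n × n) (R := R)), ite_mul]

theorem exp_induction {P : ((n × n) →₀ ℕ) → Prop} (h0 : P 0) (h1 : ∀ p, P (Finsupp.single p 1))
    (ha : ∀ a b, P a → P b → P (a + b)) : ∀ a, P a := by
  intro a
  induction a using Finsupp.induction_linear with
  | zero => exact h0
  | add a b x y => exact ha a b x y
  | single p m =>
    induction m with
    | zero => simpa using h0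
    | succ m ih => rw [Finsupp.single_add]; exact ha _ _ ih (h1 p)

/-- The weight of a monomial. -/
noncomputable def wt : ((n × n) →₀ ℕ) →+ ℤ := Finsupp.weight fun p : n × n => w p.2

theorem wt_single (p : n × n) : wt w (Finsupp.single p 1) = w p.2 := by
  simp [wt, Finsupp.weight_single]

theorem tau_monomial_single (M : Matrix n n R) (p : n × n) :
    tau M (monomial (Finsupp.single p 1) 1) = ∑ c, monomial (Finsupp.single (p.1, c) 1) (M c p.2) := by
  rw [show (monomial (Finsupp.single p 1) (1 : R)) = X p from rfl, tau, aeval_X]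
  refine Finset.sum_congr rfl fun c _ => ?_
  rw [MvPolynomial.X, MvPolynomial.C_mul_monomial, mul_one]

theorem monomial_add_one (a b : (n × n) →₀ ℕ) :
    (monomial (a + b) (1 : R)) = monomial a 1 * monomial b 1 := by simp

theorem mem_support_mul {f g : MvPolynomial (n × n) R} {c : (n × n) →₀ ℕ} (h : c ∈ (f * g).support) :
    ∃ a ∈ f.support, ∃ b ∈ g.support, c = a + b := by
  obtain ⟨a, ha, b, hb, rfl⟩ := Finset.mem_add.1 (MvPolynomial.support_mul f g h)
  exact ⟨a, ha, b, hb, rfl⟩

theorem tau_up {M : Matrix n n R} (hM : IsUp w M) (α : (n × n) →₀ ℕ) :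
    ∀ β, wt w β < wt w α → MvPolynomial.coeff β (tau M (monomial α 1)) = 0 := by
  suffices h : ∀ β ∈ (tau M (monomial α 1)).support, wt w α ≤ wt w β by
    intro β hβ
    by_contra hne
    exact absurd (h β (MvPolynomial.mem_support_iff.2 hne)) (not_le.2 hβ)
  revert α
  refine exp_induction ?_ (fun p β hβ => ?_) fun a b ha hb β hβ => ?_
  · intro β hβ
    rw [show (monomial 0 (1 : R) : MvPolynomial (n × n) R) = 1 from rfl, map_one] at hβ
    have : β = 0 := Finset.mem_singleton.1 (MvPolynomial.support_monomial_subset hβ)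
    rw [this]
  · rw [tau_monomial_single] at hβ
    obtain ⟨c, -, hc⟩ := Finset.mem_biUnion.1 (MvPolynomial.support_sum hβ)
    have : β = Finsupp.single (p.1, c) 1 := Finset.mem_singleton.1 (MvPolynomial.support_monomial_subset hc)
    subst this
    rw [wt_single, wt_single]
    by_contra hlt
    rw [hM c p.2 (not_le.1 hlt)] at hc
    simp at hc
  · rw [monomial_add_one, map_mul] at hβ
    obtain ⟨x, hx, y, hy, rfl⟩ := mem_support_mul hβ
    simp only [map_add]
    exact add_le_add (ha x hx) (hb y hy)

theorem tau_low1 {L : Matrix n n R} (hL : IsLow1 w L) (α : (n × n) →₀ ℕ) :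
    ∀ β, wt w α ≤ wt w β → MvPolynomial.coeff β (tau L (monomial α 1)) = if α = β then 1 else 0 := by
  suffices h : ∀ β ∈ (tau L (monomial α 1) - monomial α 1).support, wt w β < wt w α by
    intro β hβ
    have : MvPolynomial.coeff β (tau L (monomial α 1) - monomial α 1) = 0 := by
      by_contra hne
      exact absurd (h β (MvPolynomial.mem_support_iff.2 hne)) (not_lt.2 hβ)
    rw [MvPolynomial.coeff_sub, sub_eq_zero, MvPolynomial.coeff_monomial] at this
    exact this
  revert α
  refine exp_induction ?_ (fun p β hβ => ?_) fun a b ha hb β hβ => ?_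
  · intro β hβ
    rw [show (monomial 0 (1 : R) : MvPolynomial (n × n) R) = 1 from rfl, map_one, sub_self] at hβ
    simp at hβ
  · have e : tau L (monomial (Finsupp.single p 1) 1) - monomial (Finsupp.single p 1) 1 =
        ∑ c, monomial (Finsupp.single (p.1, c) 1) ((L - 1) c p.2) := by
      rw [tau_monomial_single]
      simp only [Matrix.sub_apply, map_sub, Finset.sum_sub_distrib]
      congr 1
      rw [Finset.sum_eq_single p.2 (fun c _ hc => by rw [Matrix.one_apply_ne hc, map_zero]) (by simp),
        Matrix.one_apply_eq]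
    rw [e] at hβ
    obtain ⟨c, -, hc⟩ := Finset.mem_biUnion.1 (MvPolynomial.support_sum hβ)
    have : β = Finsupp.single (p.1, c) 1 := Finset.mem_singleton.1 (MvPolynomial.support_monomial_subset hc)
    subst this
    rw [wt_single, wt_single]
    by_contra hle
    rw [hL.sub_one c p.2 (not_lt.1 hle)] at hc
    simp at hc
  · have e : tau L (monomial (a + b) 1) - monomial (a + b) 1 =
        (tau L (monomial a 1) - monomial a 1) * (tau L (monomial b 1) - monomial b 1) +
          (monomial a 1 * (tau L (monomial b 1) - monomial b 1) +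
            (tau L (monomial a 1) - monomial a 1) * monomial b 1) := by
      rw [monomial_add_one, map_mul]
      ring
    rw [e] at hβ
    have hmon : ∀ (a : (n × n) →₀ ℕ) x, x ∈ (monomial a (1 : R)).support → x = a :=
      fun a x hx => Finset.mem_singleton.1 (MvPolynomial.support_monomial_subset hx)
    rcases Finset.mem_union.1 (MvPolynomial.support_add hβ) with h | h
    · obtain ⟨x, hx, y, hy, rfl⟩ := mem_support_mul h
      simp only [map_add]
      exact add_lt_add (ha x hx) (hb y hy)
    · rcases Finset.mem_union.1 (MvPolynomial.support_add h) with h | h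
      · obtain ⟨x, hx, y, hy, rfl⟩ := mem_support_mul h
        rw [hmon a x hx]
        simp only [map_add]
        exact add_lt_add_right (hb y hy) _
      · obtain ⟨x, hx, y, hy, rfl⟩ := mem_support_mul h
        rw [hmon b y hy]
        simp only [map_add]
        exact add_lt_add_left (ha x hx) _

theorem tau_degree (M : Matrix n n R) (α : (n × n) →₀ ℕ) :
    ∀ β ∈ (tau M (monomial α 1)).support, Finsupp.degree β ≤ Finsupp.degree α := by
  revert α
  refine exp_induction ?_ (fun p β hβ => ?_) fun a b ha hb β hβ => ?_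
  · intro β hβ
    rw [show (monomial 0 (1 : R) : MvPolynomial (n × n) R) = 1 from rfl, map_one] at hβ
    have : β = 0 := Finset.mem_singleton.1 (MvPolynomial.support_monomial_subset hβ)
    rw [this]
  · rw [tau_monomial_single] at hβ
    obtain ⟨c, -, hc⟩ := Finset.mem_biUnion.1 (MvPolynomial.support_sum hβ)
    have : β = Finsupp.single (p.1, c) 1 := Finset.mem_singleton.1 (MvPolynomial.support_monomial_subset hc)
    subst this
    simp [Finsupp.degree_single]
  · rw [monomial_add_one, map_mul] at hβ
    obtain ⟨x, hx, y, hy, rfl⟩ := mem_support_mul hβ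
    simp only [map_add]
    exact add_le_add (ha x hx) (hb y hy)

variable (n) in
/-- Exponents of degree at most d. -/
abbrev Mon (d : ℕ) : Type u := {α : (n × n) →₀ ℕ // Finsupp.degree α ≤ d}

noncomputable instance (d : ℕ) : Fintype (Mon n d) := (Finsupp.finite_of_degree_le (σ := n × n) d).fintype

/-- The matrix of a translation on polynomials of degree at most d. -/
noncomputable def TT (d : ℕ) (M : Matrix n n R) : Matrix (Mon n d) (Mon n d) R :=
  fun β α => MvPolynomial.coeff β.1 (tau M (monomial α.1 1))

theorem TT_expand (d : ℕ) (M : Matrix n n R) (α : Mon n d) :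
    tau M (monomial α.1 1) = ∑ β : Mon n d, monomial β.1 (TT d M β α) := by
  classical
  refine MvPolynomial.ext _ _ fun γ => ?_
  rw [MvPolynomial.coeff_sum]
  simp only [MvPolynomial.coeff_monomial]
  by_cases hγ : Finsupp.degree γ ≤ d
  · rw [Finset.sum_eq_single ⟨γ, hγ⟩ (fun b _ hb => if_neg fun e => hb (Subtype.ext e)) (by simp), if_pos rfl]
    rfl
  · rw [Finset.sum_eq_zero fun b _ => if_neg (fun e : b.1 = γ => hγ (e ▸ b.2))]
    by_contra hne
    exact hγ ((tau_degree M α.1 γ (MvPolynomial.mem_support_iff.2 hne)).trans α.2)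

theorem TT_mul (d : ℕ) (M N : Matrix n n R) : TT d (M * N) = TT d M * TT d N := by
  classical
  ext γ α
  show MvPolynomial.coeff γ.1 (tau (M * N) (monomial α.1 1)) = _
  rw [← tau_comp, AlgHom.comp_apply, TT_expand d N α, map_sum, MvPolynomial.coeff_sum, Matrix.mul_apply]
  refine Finset.sum_congr rfl fun β _ => ?_
  rw [show monomial β.1 (TT d N β α) = TT d N β α • (monomial β.1 (1 : R)) by simp [MvPolynomial.smul_monomial],
    map_smul, MvPolynomial.coeff_smul, smul_eq_mul, mul_comm]
  rfl

theorem TT_one (d : ℕ) : TT d (1 : Matrix n n R) = 1 := by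
  ext β α
  rw [TT, tau_one, AlgHom.id_apply, MvPolynomial.coeff_monomial, Matrix.one_apply]
  exact if_congr ⟨fun h => Subtype.ext h.symm, fun h => h ▸ rfl⟩ rfl rfl

theorem TT_up (d : ℕ) {M : Matrix n n R} (hM : IsUp w M) :
    IsUp (fun α : Mon n d => wt w α.1) (TT d M) := fun β α h => tau_up w hM α.1 β.1 h

theorem TT_low1 (d : ℕ) {L : Matrix n n R} (hL : IsLow1 w L) :
    IsLow1 (fun α : Mon n d => wt w α.1) (TT d L) := fun β α h => by
  rw [TT, tau_low1 w hL α.1 β.1 h, Matrix.one_apply]
  exact if_congr ⟨fun h => Subtype.ext h.symm, fun h => h ▸ rfl⟩ rfl rfl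

end subst

attribute [local instance] pointsGroup

variable {k : Type u} [Field k] {A : Type u} [CommRing A] [HopfAlgebra k A]
variable {lam : A →ₐc[k] k[T;T⁻¹]} (W : WeightRep k lam)
variable {R : Type u} [CommRing R] [Algebra k R]

/-- The presentation of A by the matrix entries. -/
noncomputable def WeightRep.phi : MvPolynomial (W.ι × W.ι) k →ₐ[k] A :=
  aeval fun p => W.t p.1 p.2

theorem WeightRep.phi_surjective : Function.Surjective W.phi := by
  rw [← AlgHom.range_eq_top, WeightRep.phi, ← Algebra.adjoin_range_eq_range_aeval]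
  exact W.adjoin

theorem WeightRep.phi_point (g : WithConv (A →ₐ[k] R)) (f : MvPolynomial (W.ι × W.ι) k) :
    g.ofConv (W.phi f) = aeval (fun p => W.mat g p.1 p.2) f := by
  rw [← AlgHom.comp_apply]
  congr 1
  refine MvPolynomial.algHom_ext fun p => ?_
  simp [WeightRep.phi, WeightRep.mat]

/-- A matrix killing the relations is a point. -/
theorem WeightRep.exists_point (M : Matrix W.ι W.ι R)
    (h : ∀ f, W.phi f = 0 → aeval (fun p => M p.1 p.2) f = 0) :
    ∃ g : WithConv (A →ₐ[k] R), W.mat g = M := by
  let e := Ideal.quotientKerAlgEquivOfSurjective W.phi_surjective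
  let g := (Ideal.Quotient.liftₐ (RingHom.ker W.phi) (aeval fun p => M p.1 p.2) h).comp e.symm.toAlgHom
  refine ⟨toConv g, ?_⟩
  ext i j
  show g (W.t i j) = M i j
  have hx : e.symm (W.t i j) = Ideal.Quotient.mk (RingHom.ker W.phi) (X (i, j)) := by
    apply e.injective
    rw [AlgEquiv.apply_symm_apply]
    show _ = W.phi (X (i, j))
    simp [WeightRep.phi]
  show Ideal.Quotient.liftₐ (RingHom.ker W.phi) (aeval fun p => M p.1 p.2) h (e.symm (W.t i j)) = _
  rw [hx]
  simp

/-- The vanishing condition on the graded space of relations, and the criterion it gives. -/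
theorem WeightRep.exists_stab : ∃ (d : ℕ) (P : Matrix (Mon W.ι d) (Mon W.ι d) k),
    IsWt (fun α : Mon W.ι d => wt W.w α.1) P ∧ P * P = P ∧
    (∀ (S : Type u) [CommRing S] [Algebra k S] (g : WithConv (A →ₐ[k] S)),
      (1 - P.map (algebraMap k S)) * TT d (W.mat g) * P.map (algebraMap k S) = 0) ∧
    ∀ (S : Type u) [CommRing S] [Algebra k S] (M : Matrix W.ι W.ι S),
      (1 - P.map (algebraMap k S)) * TT d M * P.map (algebraMap k S) = 0 →
        ∀ f, W.phi f = 0 → aeval (fun p => M p.1 p.2) f = 0 := by
  classical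
  obtain ⟨G, hG⟩ := (IsNoetherian.noetherian (R := MvPolynomial (W.ι × W.ι) k)
    (RingHom.ker W.phi) : (RingHom.ker W.phi).FG)
  refine ⟨G.sup MvPolynomial.totalDegree, ?_⟩
  generalize hd : G.sup MvPolynomial.totalDegree = d
  let μ : Mon W.ι d → ℤ := fun α => wt W.w α.1
  let φv : (Mon W.ι d → k) →ₗ[k] A := Fintype.linearCombination k fun α : Mon W.ι d => W.phi (monomial α.1 1)
  have hφv : ∀ v, φv v = ∑ α, v α • W.phi (monomial α.1 1) := fun v => Fintype.linearCombination_apply k _ v
  let e : ℤ → (Mon W.ι d → k) → (Mon W.ι d → k) := fun m v α => if μ α = m then v α else 0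
  -- the relations are graded
  have hgr : ∀ v, φv v = 0 → ∀ m, φv (e m v) = 0 := by
    intro v hv m
    let q : A →ₐ[k] A[T;T⁻¹] :=
      (toConv (IsScalarTower.toAlgHom k A A[T;T⁻¹]) * lamAt lam (unitT A)).ofConv
    have hq : ∀ α : Mon W.ι d, q (W.phi (monomial α.1 1)) =
        AddMonoidAlgebra.single (μ α) (W.phi (monomial α.1 1)) := by
      suffices h : ∀ a : (W.ι × W.ι) →₀ ℕ, q (W.phi (monomial a 1)) =
          AddMonoidAlgebra.single (wt W.w a) (W.phi (monomial a 1)) from fun α => h α.1
      refine exp_induction ?_ (fun p => ?_) fun a b ha hb => ?_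
      · rw [show (monomial 0 (1 : k) : MvPolynomial (W.ι × W.ι) k) = 1 from rfl, map_one, map_one, map_zero]
        rfl
      · rw [wt_single]
        show q (W.phi (X p)) = AddMonoidAlgebra.single _ (W.phi (X p))
        rw [show W.phi (X p) = W.t p.1 p.2 from aeval_X _ _]
        show W.mat (toConv (IsScalarTower.toAlgHom k A A[T;T⁻¹]) * lamAt lam (unitT A)) p.1 p.2 = _
        rw [W.mat_mul, W.mat_lamAt, Matrix.mul_diagonal, unitT_zpow, single_eq_C_mul_T]
        rfl
      · rw [monomial_add_one, map_mul, map_mul, ha, hb, AddMonoidAlgebra.single_mul_single, map_add]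
    have h := congrArg (fun x => (q x).coeff m) hv
    simp only [hφv, map_sum, map_smul, hq, AddMonoidAlgebra.coeff_sum, AddMonoidAlgebra.coeff_smul,
      AddMonoidAlgebra.coeff_single, Finsupp.finsetSum_apply, Finsupp.smul_apply, Finsupp.single_apply,
      map_zero, AddMonoidAlgebra.coeff_zero, Finsupp.coe_zero, Pi.zero_apply] at h
    rw [hφv, ← h]
    refine Finset.sum_congr rfl fun α _ => ?_
    simp only [e]
    split_ifs <;> simp
  obtain ⟨C₀, hC₀⟩ := (LinearMap.ker φv).exists_isCompl
  let Ql : (Mon W.ι d → k) →ₗ[k] (Mon W.ι d → k) :=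
    (LinearMap.ker φv).subtype ∘ₗ (LinearMap.ker φv).linearProjOfIsCompl C₀ hC₀
  have hQmem : ∀ v, φv (Ql v) = 0 := fun v => LinearMap.mem_ker.1 ((LinearMap.ker φv).linearProjOfIsCompl C₀ hC₀ v).2
  have hQfix : ∀ v, φv v = 0 → Ql v = v := fun v hv =>
    congrArg Subtype.val (Submodule.linearProjOfIsCompl_apply_left hC₀ ⟨v, hv⟩)
  let Q := LinearMap.toMatrix' Ql
  let P : Matrix (Mon W.ι d) (Mon W.ι d) k := fun β α => if μ β = μ α then Q β α else 0
  have hPv : ∀ v β, P.mulVec v β = Ql (e (μ β) v) β := by
    intro v β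
    rw [← LinearMap.toMatrix'_mulVec Ql]
    simp only [Matrix.mulVec, dotProduct, P, e]
    refine Finset.sum_congr rfl fun α _ => ?_
    rcases eq_or_ne (μ β) (μ α) with h | h
    · rw [if_pos h, if_pos h.symm]
    · rw [if_neg h, if_neg h.symm, zero_mul, mul_zero]
  have hPmem : ∀ v, φv (P.mulVec v) = 0 := by
    intro v
    have : P.mulVec v = ∑ m ∈ Finset.univ.image μ, e m (Ql (e m v)) := by
      funext β
      rw [Finset.sum_apply, hPv, Finset.sum_eq_single (μ β) (fun m _ hm => if_neg hm.symm)
        (fun h => absurd (Finset.mem_image_of_mem μ (Finset.mem_univ β)) h)]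
      exact (if_pos rfl).symm
    rw [this, map_sum]
    exact Finset.sum_eq_zero fun m _ => hgr _ (hQmem _) m
  have hPfix : ∀ v, φv v = 0 → P.mulVec v = v := by
    intro v hv
    funext β
    rw [hPv, hQfix _ (hgr v hv _)]
    exact if_pos rfl
  have hPP : P * P = P := by
    refine Matrix.ext_iff_mulVec.2 fun v => ?_
    rw [← Matrix.mulVec_mulVec, hPfix _ (hPmem v)]
  refine ⟨P, fun β α h => if_neg h, hPP, fun S _ _ g => ?_, fun S _ _ M hM f hf => ?_⟩
  · let u1 : WithConv (A →ₐ[k] S ⊗[k] A) := toConv Algebra.TensorProduct.includeRight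
    let g' : WithConv (A →ₐ[k] S ⊗[k] A) :=
      push (Algebra.TensorProduct.includeLeft : S →ₐ[k] S ⊗[k] A) g
    have hz : ∀ v, φv v = 0 → ∑ β : Mon W.ι d,
        (TT d (W.mat g)).mulVec (fun α => algebraMap k S (v α)) β ⊗ₜ[k] W.phi (monomial β.1 1) = 0 := by
      intro v hv
      let Θ : MvPolynomial (W.ι × W.ι) S →ₐ[S] S ⊗[k] A := aeval fun p => (1 : S) ⊗ₜ[k] W.t p.1 p.2
      have hΘtau : Θ.comp (tau (W.mat g)) = aeval fun p => (u1 * g').ofConv (W.t p.1 p.2) := by
        refine MvPolynomial.algHom_ext fun p => ?_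
        show Θ (tau (W.mat g) (X p)) = _
        rw [tau, aeval_X, aeval_X, map_sum]
        show _ = W.mat (u1 * g') p.1 p.2
        rw [W.mat_mul, Matrix.mul_apply]
        refine Finset.sum_congr rfl fun c _ => ?_
        simp [Θ, u1, g', WeightRep.mat, push, Algebra.algebraMap_eq_smul_one, TensorProduct.smul_tmul']
      have hΘmon : ∀ (a : (W.ι × W.ι) →₀ ℕ) (s : S), Θ (monomial a s) = s ⊗ₜ[k] W.phi (monomial a 1) := by
        intro a s
        have h1 : Θ (monomial a 1) = (1 : S) ⊗ₜ[k] W.phi (monomial a 1) := by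
          revert a
          refine exp_induction ?_ (fun p => ?_) fun a b ha hb => ?_
          · rw [show (monomial 0 (1 : S) : MvPolynomial (W.ι × W.ι) S) = 1 from rfl,
              show (monomial 0 (1 : k) : MvPolynomial (W.ι × W.ι) k) = 1 from rfl, map_one, map_one]
            rfl
          · show Θ (X p) = _ ⊗ₜ[k] W.phi (X p)
            simp [Θ, WeightRep.phi]
          · rw [monomial_add_one, monomial_add_one, map_mul, map_mul, ha, hb,
              Algebra.TensorProduct.tmul_mul_tmul, _root_.mul_one]
        rw [show monomial a s = s • (monomial a (1 : S)) by simp [MvPolynomial.smul_monomial], map_smul, h1,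
          TensorProduct.smul_tmul', smul_eq_mul, _root_.mul_one]
      have hcol : ∀ α : Mon W.ι d, ∑ β : Mon W.ι d, TT d (W.mat g) β α ⊗ₜ[k] W.phi (monomial β.1 1) =
          (u1 * g').ofConv (W.phi (monomial α.1 1)) := by
        intro α
        have h1 := congrArg Θ (TT_expand d (W.mat g) α)
        rw [map_sum, ← AlgHom.comp_apply, hΘtau] at h1
        simp only [hΘmon] at h1
        rw [← h1, W.phi_point, aeval_monomial, aeval_monomial, map_one, map_one]
        rfl
      calc ∑ β : Mon W.ι d, (TT d (W.mat g)).mulVec (fun α => algebraMap k S (v α)) β ⊗ₜ[k] W.phi (monomial β.1 1)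
          = ∑ α, v α • ∑ β : Mon W.ι d, TT d (W.mat g) β α ⊗ₜ[k] W.phi (monomial β.1 1) := by
            simp only [Matrix.mulVec, dotProduct, TensorProduct.sum_tmul, Finset.smul_sum]
            rw [Finset.sum_comm]
            refine Finset.sum_congr rfl fun α _ => Finset.sum_congr rfl fun β _ => ?_
            rw [mul_comm, ← Algebra.smul_def, TensorProduct.smul_tmul']
        _ = (u1 * g').ofConv (φv v) := by simp only [hcol, hφv, map_sum, map_smul]
        _ = 0 := by rw [hv, map_zero]
    ext β α
    have h1 : ∀ x, φv x = 0 → ((1 : Matrix (Mon W.ι d) (Mon W.ι d) k) - P).mulVec x β = 0 := by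
      intro x hx
      rw [Matrix.sub_mulVec, Matrix.one_mulVec, hPfix x hx, sub_self]
      rfl
    obtain ⟨ψ, hψ⟩ := HopfFF.exists_functional_factor φv
      ((LinearMap.proj β) ∘ₗ Matrix.toLin' (1 - P)) (fun x hx => by rw [LinearMap.comp_apply, Matrix.toLin'_apply]; exact h1 x hx)
    have hψ' : ∀ γ : Mon W.ι d, ψ (W.phi (monomial γ.1 1)) = (1 - P) β γ := by
      intro γ
      have h := hψ (Pi.single γ 1)
      simp only [φv, Fintype.linearCombination_apply_single, one_smul, LinearMap.comp_apply, Matrix.toLin'_apply,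
        LinearMap.proj_apply, Matrix.mulVec_single_one] at h
      exact h
    have h2 := congrArg (fun z => TensorProduct.rid k S (ψ.lTensor S z)) (hz (fun γ => P γ α) (hPmem (Pi.single α 1) |> fun h => by
      rwa [Matrix.mulVec_single_one] at h))
    simp only [map_sum, LinearMap.lTensor_tmul, TensorProduct.rid_tmul, hψ', map_zero] at h2
    rw [Matrix.mul_assoc, Matrix.mul_apply, Matrix.zero_apply]
    refine Eq.trans (Finset.sum_congr rfl fun γ _ => ?_) h2
    rw [Algebra.smul_def, Matrix.mul_apply]
    congr 1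
    rw [Matrix.sub_apply, Matrix.sub_apply, map_sub, Matrix.map_apply]
    congr 1
    rw [Matrix.one_apply, Matrix.one_apply, apply_ite (algebraMap k S), map_one, map_zero]
  · have key : ∀ v, φv v = 0 → ∑ α, v α • aeval (fun p => M p.1 p.2) (monomial α.1 (1 : k)) = 0 := by
      intro v hv
      let EI : MvPolynomial (W.ι × W.ι) S →ₐ[S] S := aeval fun p => (1 : Matrix W.ι W.ι S) p.1 p.2
      have hEI : EI.comp (tau M) = aeval fun p => M p.1 p.2 := by
        refine MvPolynomial.algHom_ext fun p => ?_
        simp [EI, tau, Matrix.one_apply]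
      let ev1 : Mon W.ι d → S := fun γ => EI (monomial γ.1 1)
      have hM1 : ∀ α : Mon W.ι d, aeval (fun p => M p.1 p.2) (monomial α.1 (1 : k)) =
          ∑ β, ev1 β * TT d M β α := by
        intro α
        have h1 := congrArg EI (TT_expand d M α)
        rw [map_sum, ← AlgHom.comp_apply, hEI] at h1
        rw [aeval_monomial, map_one] at h1 ⊢
        rw [h1]
        refine Finset.sum_congr rfl fun β _ => ?_
        simp only [ev1, EI, aeval_monomial, map_one, _root_.one_mul, Algebra.algebraMap_self, RingHom.id_apply]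
        rw [mul_comm]
      have hW : Matrix.vecMul ev1 (P.map (algebraMap k S)) = 0 := by
        funext γ
        have h0 := congrArg (fun a => (1 : WithConv (A →ₐ[k] S)).ofConv a) (hPmem (Pi.single γ 1))
        simp only [map_zero, Matrix.mulVec_single_one, hφv, map_sum, map_smul] at h0
        refine Eq.trans (Finset.sum_congr rfl fun β _ => ?_) h0
        show ev1 β * algebraMap k S (P β γ) = P β γ • _
        rw [W.phi_point, W.mat_one, aeval_monomial, map_one, Algebra.smul_def, mul_comm (ev1 β)]
        simp only [ev1, EI, aeval_monomial, map_one]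
      let vS : Mon W.ι d → S := fun α => algebraMap k S (v α)
      have hvS : (P.map (algebraMap k S)).mulVec vS = vS := by
        funext β
        have := congrArg (algebraMap k S) (congrFun (hPfix v hv) β)
        show _ = algebraMap k S (v β)
        rw [← this]
        simp [Matrix.mulVec, dotProduct, vS, map_sum, map_mul]
      have hT : TT d M * P.map (algebraMap k S) =
          P.map (algebraMap k S) * TT d M * P.map (algebraMap k S) := by
        rw [Matrix.sub_mul, Matrix.sub_mul, Matrix.one_mul, sub_eq_zero] at hM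
        exact hM
      calc ∑ α, v α • aeval (fun p => M p.1 p.2) (monomial α.1 (1 : k))
          = dotProduct ev1 ((TT d M).mulVec vS) := by
            simp only [hM1, dotProduct, Matrix.mulVec, Finset.mul_sum, Finset.smul_sum]
            rw [Finset.sum_comm]
            refine Finset.sum_congr rfl fun β _ => Finset.sum_congr rfl fun α _ => ?_
            rw [Algebra.smul_def]
            ring
        _ = dotProduct ev1 ((P.map (algebraMap k S) * TT d M * P.map (algebraMap k S)).mulVec vS) := by
            rw [← hT, ← Matrix.mulVec_mulVec, hvS]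
        _ = 0 := by
            rw [Matrix.mul_assoc, ← Matrix.mulVec_mulVec, Matrix.dotProduct_mulVec, hW, zero_dotProduct]
    have hf' : f ∈ RingHom.ker W.phi := hf
    rw [← hG] at hf'
    suffices Ideal.span (G : Set (MvPolynomial (W.ι × W.ι) k)) ≤
        RingHom.ker (aeval (R := k) fun p : W.ι × W.ι => M p.1 p.2) from this hf'
    rw [Ideal.span_le]
    intro f hfG
    have hdeg : ∀ a ∈ f.support, Finsupp.degree a ≤ d := fun a ha => by
      rw [← hd]
      refine le_trans ?_ (Finset.le_sup (f := MvPolynomial.totalDegree) hfG)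
      exact MvPolynomial.le_totalDegree ha
    have hexp : f = ∑ α : Mon W.ι d, MvPolynomial.coeff α.1 f • monomial α.1 (1 : k) := by
      refine MvPolynomial.ext _ _ fun γ => ?_
      rw [MvPolynomial.coeff_sum]
      simp only [MvPolynomial.coeff_smul, MvPolynomial.coeff_monomial, smul_eq_mul, mul_ite, _root_.mul_one, mul_zero]
      by_cases hγ : Finsupp.degree γ ≤ d
      · rw [Finset.sum_eq_single ⟨γ, hγ⟩ (fun b _ hb => if_neg fun e => hb (Subtype.ext e)) (by simp), if_pos rfl]
      · rw [Finset.sum_eq_zero fun b _ => if_neg (fun e : b.1 = γ => hγ (e ▸ b.2))]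
        exact MvPolynomial.notMem_support_iff.1 fun h => hγ (hdeg γ h)
    have h0 : φv (fun α => MvPolynomial.coeff α.1 f) = 0 := by
      have : W.phi f = 0 := RingHom.mem_ker.1 (hG ▸ Ideal.subset_span hfG)
      rw [hexp, map_sum] at this
      simp only [map_smul] at this
      rw [hφv]
      exact this
    show aeval (fun p => M p.1 p.2) f = 0
    rw [hexp, map_sum]
    simp only [map_smul]
    exact key _ h0

end Groth.Agent.DynLib
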