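/-
The multiplication U(-λ) × P(λ) → G is the inclusion of a principal open set.
-/
import Groth.Agent.DynLib.BigCell
import Mathlib.RingTheory.Localization.Away.Basic

set_option autoImplicit false

universe u

open LaurentPolynomial TensorProduct WithConv MvPolynomial

namespace Groth.Agent.DynLib

attribute [local instance] pointsGroup

variable {k : Type u} [Field k] {A : Type u} [CommRing A] [HopfAlgebra k A]
variable {lam lamNeg : A →ₐc[k] k[T;T⁻¹]} (W : WeightRep k lam)
variable {R : Type u} [CommRing R] [Algebra k R]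

/-- The same vectors for the opposite parameter. -/
def WeightRep.neg (hneg : (lamNeg : A →ₐ[k] k[T;T⁻¹]) = Dyn.negParam k A lam) : WeightRep k lamNeg where
  ι := W.ι
  w i := - W.w i
  t := W.t
  comul := W.comul
  counit := W.counit
  adjoin := W.adjoin
  lam_t i j := by
    show (lamNeg : A →ₐ[k] k[T;T⁻¹]) (W.t i j) = _
    rw [hneg]
    show invert (lam (W.t i j)) = _
    rw [W.lam_t]
    split_ifs
    · rw [invert_T]
    · rw [map_zero]

theorem WeightRep.orbit_gen_coeff (g : WithConv (A →ₐ[k] R)) (i j : W.ι) (n : ℤ) :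
    g.ofConv (coef lam n (W.t i j)) = if W.w i - W.w j = n then W.mat g i j else 0 := by
  rw [← orbit_coeff lam g.ofConv n, toConv_ofConv,
    show (orbit R lam g).ofConv (W.t i j) = W.mat (orbit R lam g) i j from rfl, W.mat_orbit,
    ← single_eq_C_mul_T, AddMonoidAlgebra.coeff_single, Finsupp.single_apply]

theorem WeightRep.limExists_iff_up (g : WithConv (A →ₐ[k] R)) :
    Dyn.LimExists k A lam R g.ofConv ↔ IsUp W.w (W.mat g) := by
  rw [limExists_iff_coef]
  constructor
  · intro h i j hij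
    have h1 := h (W.t i j) (W.w i - W.w j) (by omega)
    rwa [W.orbit_gen_coeff, if_pos rfl] at h1
  · intro hup a n hn
    have hm : a ∈ ((toL k R).range.comap (orbit R lam g).ofConv) := by
      have ha : a ∈ Algebra.adjoin k (Set.range fun p : W.ι × W.ι => W.t p.1 p.2) := by rw [W.adjoin]; trivial
      refine Algebra.adjoin_le ?_ ha
      rintro _ ⟨⟨i, j⟩, rfl⟩
      refine mem_range_toLaurent fun m hm => ?_
      show ((orbit R lam g).ofConv (W.t i j)).coeff m = 0
      have h := orbit_coeff lam g.ofConv m (W.t i j)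
      rw [toConv_ofConv] at h
      rw [h, W.orbit_gen_coeff]
      split_ifs with he
      · exact hup i j (by omega)
      · rfl
    obtain ⟨p, hp⟩ := hm
    rw [← orbit_coeff lam g.ofConv n, toConv_ofConv]
    exact hp ▸ toLaurent_coeff_neg p hn

theorem WeightRep.limIsOne_iff_neg (g : WithConv (A →ₐ[k] R)) :
    Dyn.LimIsOne k A lam R g.ofConv ↔
      IsUp W.w (W.mat g) ∧ ∀ i j, W.w i = W.w j → W.mat g i j = (1 : Matrix W.ι W.ι R) i j := by
  rw [← W.limExists_iff_up]
  constructor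
  · intro h
    have h' := (limIsOne_iff_coef lam g.ofConv).1 h
    refine ⟨(limExists_iff_coef lam g.ofConv).2 h'.1, fun i j hij => ?_⟩
    have h1 := h'.2 (W.t i j)
    rw [map_sub, W.orbit_gen_coeff, if_pos (by omega), AlgHom.commutes, sub_eq_zero, W.counit] at h1
    rw [h1, Matrix.one_apply, apply_ite (algebraMap k R), map_one, map_zero]
  · rintro ⟨hle, hd⟩
    obtain ⟨h, hh⟩ := (limExists_iff lam g.ofConv).1 hle
    refine (limIsOne_iff lam g.ofConv).2 ⟨h, hh, ?_⟩
    refine W.mat_injective ?_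
    rw [W.mat_one]
    ext i j
    show (push (ev0 k R) h).ofConv (W.t i j) = _
    rw [ev0_eq_coef lam g.ofConv hh, W.orbit_gen_coeff]
    split_ifs with he
    · exact hd i j (by omega)
    · rw [Matrix.one_apply_ne (by rintro rfl; exact he (sub_self _))]

theorem WeightRep.limIsOne_neg_iff_low1 (hneg : (lamNeg : A →ₐ[k] k[T;T⁻¹]) = Dyn.negParam k A lam)
    (g : WithConv (A →ₐ[k] R)) :
    Dyn.LimIsOne k A lamNeg R g.ofConv ↔ IsLow1 W.w (W.mat g) := by
  rw [(W.neg hneg).limIsOne_iff_neg g]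
  show IsUp (fun i => - W.w i) (W.mat g) ∧ (∀ i j, - W.w i = - W.w j → W.mat g i j = _) ↔ _
  constructor
  · rintro ⟨h1, h2⟩ i j hij
    rcases hij.lt_or_eq with h | h
    · rw [h1 i j (neg_lt_neg h), Matrix.one_apply_ne (by rintro rfl; exact lt_irrefl _ h)]
    · exact h2 i j (by omega)
  · intro h
    refine ⟨fun i j hij => ?_, fun i j hij => h i j (le_of_eq (by omega))⟩
    have hij' : W.w j < W.w i := neg_lt_neg_iff.1 hij
    rw [h i j hij'.le, Matrix.one_apply_ne (by rintro rfl; exact lt_irrefl _ hij')]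

/-- The function cutting out the cell. -/
noncomputable def WeightRep.cell : A := ∏ j, (corner W.w (W.w j) W.t).det

theorem WeightRep.point_cell (g : WithConv (A →ₐ[k] R)) :
    g.ofConv W.cell = ∏ j, (corner W.w (W.w j) (W.mat g)).det := by
  rw [WeightRep.cell, map_prod]
  refine Finset.prod_congr rfl fun j _ => ?_
  rw [AlgHom.map_det]
  congr 1
  ext a b
  show g.ofConv (corner W.w (W.w j) W.t a b) = corner W.w (W.w j) (W.mat g) a b
  simp only [corner]
  split_ifs
  · rfl
  · rw [Matrix.one_apply, Matrix.one_apply, apply_ite g.ofConv, map_one, map_zero]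

/-- Decomposition of a point of the cell. -/
theorem WeightRep.exists_factor (hneg : (lamNeg : A →ₐ[k] k[T;T⁻¹]) = Dyn.negParam k A lam)
    (g : WithConv (A →ₐ[k] R)) (hg : IsUnit (g.ofConv W.cell)) :
    ∃ u p : WithConv (A →ₐ[k] R), u * p = g ∧ Dyn.LimIsOne k A lamNeg R u.ofConv ∧
      Dyn.LimExists k A lam R p.ofConv := by
  classical
  obtain ⟨d, P, hPwt, hPP, hP1, hP2⟩ := W.exists_stab
  rw [W.point_cell, IsUnit.prod_iff] at hg
  obtain ⟨L, U, hL, hU, hUd, hLU⟩ := exists_decomp (w := W.w) (W.mat_isUnit_det g) fun j => hg j (Finset.mem_univ j)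
  have hPS : IsWt (fun α : Mon W.ι d => wt W.w α.1) (P.map (algebraMap k R)) := fun a b h => by
    rw [Matrix.map_apply, hPwt a b h, map_zero]
  have hPPS : P.map (algebraMap k R) * P.map (algebraMap k R) = P.map (algebraMap k R) := by
    rw [← Matrix.map_mul, hPP]
  have hstab := stab_up hPS hPPS (hP1 R g) (hP1 R g⁻¹)
    (by rw [← TT_mul, ← W.mat_mul, mul_inv_cancel, W.mat_one, TT_one])
    (TT_low1 W.w d hL) (TT_up W.w d hU) (by rw [hLU, TT_mul])
  obtain ⟨p, hp⟩ := W.exists_point U (hP2 R U hstab)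
  refine ⟨g * p⁻¹, p, inv_mul_cancel_right g p, ?_, ?_⟩
  · rw [W.limIsOne_neg_iff_low1 hneg, W.mat_mul, W.mat_inv, hp, hLU, Matrix.mul_assoc,
      Matrix.mul_nonsing_inv U hUd, Matrix.mul_one]
    exact hL
  · rw [W.limExists_iff_up, hp]
    exact hU

theorem WeightRep.isUnit_cell (hneg : (lamNeg : A →ₐ[k] k[T;T⁻¹]) = Dyn.negParam k A lam)
    {u p : WithConv (A →ₐ[k] R)} (hu : Dyn.LimIsOne k A lamNeg R u.ofConv)
    (hp : Dyn.LimExists k A lam R p.ofConv) : IsUnit ((u * p).ofConv W.cell) := by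
  rw [W.point_cell, W.mat_mul, IsUnit.prod_iff]
  exact fun j _ => isUnit_det_corner_mul _ ((W.limIsOne_neg_iff_low1 hneg u).1 hu)
    ((W.limExists_iff_up p).1 hp) (W.mat_isUnit_det p)

include W in
theorem WeightRep.factor_unique (hneg : (lamNeg : A →ₐ[k] k[T;T⁻¹]) = Dyn.negParam k A lam)
    {u p u' p' : WithConv (A →ₐ[k] R)} (hu : Dyn.LimIsOne k A lamNeg R u.ofConv)
    (hp : Dyn.LimExists k A lam R p.ofConv) (hu' : Dyn.LimIsOne k A lamNeg R u'.ofConv)
    (hp' : Dyn.LimExists k A lam R p'.ofConv) (e : u * p = u' * p') : u = u' ∧ p = p' := by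
  have h := decomp_unique ((W.limIsOne_neg_iff_low1 hneg u).1 hu) ((W.limExists_iff_up p).1 hp)
    ((W.limIsOne_neg_iff_low1 hneg u').1 hu') ((W.limExists_iff_up p').1 hp') (W.mat_isUnit_det p)
    (by rw [← W.mat_mul, ← W.mat_mul, e])
  exact ⟨W.mat_injective h.1, W.mat_injective h.2⟩

variable [Algebra.FiniteType k A]

/-- The cell is the principal open set of `cell`. -/
theorem exists_away_algEquiv (hneg : (lamNeg : A →ₐ[k] k[T;T⁻¹]) = Dyn.negParam k A lam)
    (Jp Jm : Ideal A)
    (hp : Dyn.Represents k A Jp (fun R _ _ g => Dyn.LimExists k A lam R g))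
    (hm : Dyn.Represents k A Jm (fun R _ _ g => Dyn.LimIsOne k A lamNeg R g)) :
    ∃ (f : A) (e : Localization.Away f ≃ₐ[k] (A ⧸ Jm) ⊗[k] (A ⧸ Jp)), ∀ a,
      e (algebraMap A (Localization.Away f) a) =
        Algebra.TensorProduct.map (Ideal.Quotient.mkₐ k Jm) (Ideal.Quotient.mkₐ k Jp)
          (CoalgebraStruct.comul (R := k) a) := by
  classical
  obtain ⟨W⟩ := exists_weightRep k lam
  let C := (A ⧸ Jm) ⊗[k] (A ⧸ Jp)
  let u0 : WithConv (A →ₐ[k] C) :=
    toConv ((Algebra.TensorProduct.includeLeft : (A ⧸ Jm) →ₐ[k] C).comp (Ideal.Quotient.mkₐ k Jm))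
  let p0 : WithConv (A →ₐ[k] C) :=
    toConv ((Algebra.TensorProduct.includeRight : (A ⧸ Jp) →ₐ[k] C).comp (Ideal.Quotient.mkₐ k Jp))
  have hu0 : Dyn.LimIsOne k A lamNeg C u0.ofConv := (hm C u0.ofConv).1 fun a ha => by
    show (Ideal.Quotient.mk Jm a) ⊗ₜ[k] (1 : A ⧸ Jp) = 0
    rw [Ideal.Quotient.eq_zero_iff_mem.2 ha, TensorProduct.zero_tmul]
  have hp0 : Dyn.LimExists k A lam C p0.ofConv := (hp C p0.ofConv).1 fun a ha => by
    show (1 : A ⧸ Jm) ⊗ₜ[k] (Ideal.Quotient.mk Jp a) = 0
    rw [Ideal.Quotient.eq_zero_iff_mem.2 ha, TensorProduct.tmul_zero]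
  let mstar : A →ₐ[k] C := (Algebra.TensorProduct.map (Ideal.Quotient.mkₐ k Jm) (Ideal.Quotient.mkₐ k Jp)).comp
    (Bialgebra.comulAlgHom k A)
  have hm0 : toConv mstar = u0 * p0 := map_comp_comul (C := A ⧸ Jm) (D := A ⧸ Jp) _ _
  let α : Localization.Away W.cell →ₐ[k] C :=
    IsLocalization.liftAlgHom (M := Submonoid.powers W.cell) (f := mstar) (by
      rintro ⟨_, n, rfl⟩
      show IsUnit (mstar (W.cell ^ n))
      rw [map_pow]
      refine IsUnit.pow n ?_
      have := W.isUnit_cell hneg hu0 hp0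
      rwa [← hm0] at this)
  let ι1 : A →ₐ[k] Localization.Away W.cell := IsScalarTower.toAlgHom k A _
  obtain ⟨u, p, hup, hu, hp'⟩ := W.exists_factor hneg (toConv ι1)
    (IsLocalization.Away.algebraMap_isUnit W.cell)
  let β : C →ₐ[k] Localization.Away W.cell :=
    Algebra.TensorProduct.lift (Ideal.Quotient.liftₐ Jm u.ofConv ((hm _ u.ofConv).2 hu))
      (Ideal.Quotient.liftₐ Jp p.ofConv ((hp _ p.ofConv).2 hp')) (fun _ _ => Commute.all _ _)
  have hβu : push β u0 = u := WithConv.ext (AlgHom.ext fun a => by simp [β, u0, push, C])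
  have hβp : push β p0 = p := WithConv.ext (AlgHom.ext fun a => by simp [β, p0, push, C])
  have hα : α.comp ι1 = mstar := AlgHom.ext fun a => IsLocalization.lift_eq _ a
  have h1 : β.comp α = AlgHom.id k _ := by
    refine IsLocalization.algHom_ext (Submonoid.powers W.cell) (AlgHom.ext fun a => ?_)
    have e : push β (u0 * p0) = toConv ι1 := by rw [map_mul, hβu, hβp, hup]
    rw [← hm0] at e
    show β (α (ι1 a)) = ι1 a
    rw [show α (ι1 a) = mstar a from DFunLike.congr_fun hα a]
    exact congrArg (fun z : WithConv (A →ₐ[k] Localization.Away W.cell) => z.ofConv a) e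
  have h2 : α.comp β = AlgHom.id k _ := by
    have e : push α u * push α p = u0 * p0 := by
      rw [← map_mul, hup, push_toConv, hα, hm0]
    have hu' : Dyn.LimIsOne k A lamNeg C (push α u).ofConv := (hm C _).1 fun a ha => by
      show α (u.ofConv a) = 0
      rw [(hm _ u.ofConv).2 hu a ha, map_zero]
    have hp'' : Dyn.LimExists k A lam C (push α p).ofConv := (hp C _).1 fun a ha => by
      show α (p.ofConv a) = 0
      rw [(hp _ p.ofConv).2 hp' a ha, map_zero]
    obtain ⟨eu, ep⟩ := W.factor_unique hneg hu' hp'' hu0 hp0 e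
    refine Algebra.TensorProduct.ext (AlgHom.ext fun x => ?_) (AlgHom.ext fun y => ?_)
    · obtain ⟨a, rfl⟩ := Ideal.Quotient.mk_surjective x
      refine Eq.trans ?_ (congrArg (fun z : WithConv (A →ₐ[k] C) => z.ofConv a) eu)
      exact congrArg α (congrArg (fun z : WithConv (A →ₐ[k] _) => z.ofConv a) hβu)
    · obtain ⟨a, rfl⟩ := Ideal.Quotient.mk_surjective y
      refine Eq.trans ?_ (congrArg (fun z : WithConv (A →ₐ[k] C) => z.ofConv a) ep)
      exact congrArg α (congrArg (fun z : WithConv (A →ₐ[k] _) => z.ofConv a) hβp)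
  exact ⟨W.cell, AlgEquiv.ofAlgHom α β h2 h1, fun a => DFunLike.congr_fun hα a⟩

end Groth.Agent.DynLib
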