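/-
P(λ) and U(λ) under flat surjective homomorphisms.
-/
import Groth.Agent.DynLib.Open
import Groth.Agent.HopfFFLib.Injective
import Mathlib.RingTheory.RingHom.Flat
import Mathlib.RingTheory.Ideal.IdempotentFG
import Mathlib.RingTheory.Flat.Localization

set_option autoImplicit false

universe u

open LaurentPolynomial TensorProduct WithConv

namespace Groth.Agent.DynLib

attribute [local instance] pointsGroup

variable {k : Type u} [Field k] {A A' : Type u} [CommRing A] [HopfAlgebra k A] [CommRing A'] [HopfAlgebra k A']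

/-- Composition with a bialgebra map, on points. -/
noncomputable def pull (φ : A' →ₐc[k] A) {R : Type u} [CommRing R] [Algebra k R] :
    WithConv (A →ₐ[k] R) →* WithConv (A' →ₐ[k] R) where
  toFun g := toConv (g.ofConv.comp (φ : A' →ₐ[k] A))
  map_one' := by
    apply WithConv.ext
    refine AlgHom.ext fun a => ?_
    show (1 : WithConv (A →ₐ[k] R)) (φ a) = (1 : WithConv (A' →ₐ[k] R)) a
    rw [AlgHom.convOne_apply, AlgHom.convOne_apply, CoalgHomClass.counit_comp_apply]
  map_mul' f g := by
    apply WithConv.ext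
    exact AlgHom.convMul_comp_bialgHom_distrib f g φ

theorem lamAt_pull (φ : A' →ₐc[k] A) (lam : A →ₐc[k] k[T;T⁻¹]) {R : Type u} [CommRing R] [Algebra k R]
    (t : Rˣ) : lamAt (lam.comp φ) t = pull φ (lamAt lam t) := WithConv.ext (AlgHom.ext fun _ => rfl)

theorem push_pull (φ : A' →ₐc[k] A) {R R' : Type u} [CommRing R] [Algebra k R] [CommRing R'] [Algebra k R']
    (ψ : R →ₐ[k] R') (g : WithConv (A →ₐ[k] R)) : push ψ (pull φ g) = pull φ (push ψ g) :=
  WithConv.ext (AlgHom.ext fun _ => rfl)

theorem orbit_pull (φ : A' →ₐc[k] A) (lam : A →ₐc[k] k[T;T⁻¹]) {R : Type u} [CommRing R] [Algebra k R]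
    (g : WithConv (A →ₐ[k] R)) :
    orbit R (lam.comp φ) (pull φ g) = pull φ (orbit R lam g) := by
  unfold orbit
  simp only [MonoidHom.comp_apply, push_pull, conjAt_apply, map_mul, map_inv, lamAt_pull]

theorem limExists_pull (φ : A' →ₐc[k] A) (lam : A →ₐc[k] k[T;T⁻¹]) {R : Type u} [CommRing R] [Algebra k R]
    (g : A →ₐ[k] R) (h : Dyn.LimExists k A lam R g) :
    Dyn.LimExists k A' (lam.comp φ) R (g.comp (φ : A' →ₐ[k] A)) := by
  obtain ⟨p, hp⟩ := (limExists_iff lam g).1 h
  refine (limExists_iff _ _).2 ⟨pull φ p, ?_⟩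
  show pull φ (push (toL k R) p) = orbit R (lam.comp φ) (pull φ (toConv g))
  rw [hp, orbit_pull]

theorem limIsOne_pull (φ : A' →ₐc[k] A) (lam : A →ₐc[k] k[T;T⁻¹]) {R : Type u} [CommRing R] [Algebra k R]
    (g : A →ₐ[k] R) (h : Dyn.LimIsOne k A lam R g) :
    Dyn.LimIsOne k A' (lam.comp φ) R (g.comp (φ : A' →ₐ[k] A)) := by
  obtain ⟨p, hp, hp0⟩ := (limIsOne_iff lam g).1 h
  refine (limIsOne_iff _ _).2 ⟨pull φ p, ?_, ?_⟩
  · show pull φ (push (toL k R) p) = orbit R (lam.comp φ) (pull φ (toConv g))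
    rw [hp, orbit_pull]
  · show pull φ (push (ev0 k R) p) = 1
    rw [hp0, map_one]

variable (φ : A' →ₐc[k] A) (lam lamNeg : A →ₐc[k] k[T;T⁻¹])

theorem le_comap_limExists (J : Ideal A) (J' : Ideal A')
    (hJ : Dyn.Represents k A J (fun R _ _ g => Dyn.LimExists k A lam R g))
    (hJ' : Dyn.Represents k A' J' (fun R _ _ g => Dyn.LimExists k A' (lam.comp φ) R g)) :
    J' ≤ Ideal.comap (φ : A' →+* A) J := fun a ha =>
  Ideal.mem_comap.2 (Ideal.Quotient.eq_zero_iff_mem.1 ((hJ' _ _).2 (limExists_pull φ lam _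
    ((hJ (A ⧸ J) (Ideal.Quotient.mkₐ k J)).1 fun _ hx => Ideal.Quotient.eq_zero_iff_mem.2 hx)) a ha))

theorem le_comap_limIsOne (J : Ideal A) (J' : Ideal A')
    (hJ : Dyn.Represents k A J (fun R _ _ g => Dyn.LimIsOne k A lam R g))
    (hJ' : Dyn.Represents k A' J' (fun R _ _ g => Dyn.LimIsOne k A' (lam.comp φ) R g)) :
    J' ≤ Ideal.comap (φ : A' →+* A) J := fun a ha =>
  Ideal.mem_comap.2 (Ideal.Quotient.eq_zero_iff_mem.1 ((hJ' _ _).2 (limIsOne_pull φ lam _
    ((hJ (A ⧸ J) (Ideal.Quotient.mkₐ k J)).1 fun _ hx => Ideal.Quotient.eq_zero_iff_mem.2 hx)) a ha))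

/-- Flatness of the two factors of the cell. -/
theorem _root_.Groth.Agent.DynLib.flat_of_retract {R S T : Type u} [CommRing R] [CommRing S] [CommRing T]
    (f : R →+* S) (i : S →+* T) (r : T →+* S) (h : ∀ y, r (i y) = y) (hf : (i.comp f).Flat) : f.Flat := by
  letI : Algebra R S := f.toAlgebra
  letI : Algebra R T := (i.comp f).toAlgebra
  haveI : Module.Flat R T := hf
  let il : S →ₗ[R] T :=
    { toFun := i
      map_add' := map_add i
      map_smul' := fun x y => by
        show i (f x * y) = i (f x) * i y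
        rw [map_mul] }
  let rl : T →ₗ[R] S :=
    { toFun := r
      map_add' := map_add r
      map_smul' := fun x y => by
        show r (i (f x) * y) = f x * r y
        rw [map_mul, h] }
  exact Module.Flat.of_retract il rl (LinearMap.ext h)

theorem flat_of_flat_map {M M' P P' : Type u} [CommRing M] [Bialgebra k M] [CommRing P] [Bialgebra k P]
    [CommRing M'] [Algebra k M'] [CommRing P'] [Algebra k P'] (ψm : M' →ₐ[k] M) (ψp : P' →ₐ[k] P)
    (h : (Algebra.TensorProduct.map ψm ψp).toRingHom.Flat) : ψm.toRingHom.Flat ∧ ψp.toRingHom.Flat := by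
  constructor
  · have h1 : (Algebra.TensorProduct.map (AlgHom.id k M') (Algebra.ofId k P')).toRingHom.Flat :=
      RingHom.Flat.tensorProductMap (RingHom.Flat.id _) (RingHom.Flat.of_isField (Field.toIsField k) _)
    have h2 := RingHom.Flat.comp (RingHom.Flat.comp
      (RingHom.Flat.of_bijective (f := (Algebra.TensorProduct.rid k k M').symm.toAlgHom.toRingHom)
        (AlgEquiv.bijective _)) h1) h
    refine flat_of_retract ψm.toRingHom (Algebra.TensorProduct.includeLeft : M →ₐ[k] M ⊗[k] P).toRingHom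
      ((Algebra.TensorProduct.rid k k M).toAlgHom.comp
        (Algebra.TensorProduct.map (AlgHom.id k M) (Bialgebra.counitAlgHom k P))).toRingHom (fun y => by simp) ?_
    convert h2 using 1
    refine RingHom.ext fun c => ?_
    simp
  · have h1 : (Algebra.TensorProduct.map (Algebra.ofId k M') (AlgHom.id k P')).toRingHom.Flat :=
      RingHom.Flat.tensorProductMap (RingHom.Flat.of_isField (Field.toIsField k) _) (RingHom.Flat.id _)
    have h2 := RingHom.Flat.comp (RingHom.Flat.comp
      (RingHom.Flat.of_bijective (f := (Algebra.TensorProduct.lid k P').symm.toAlgHom.toRingHom)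
        (AlgEquiv.bijective _)) h1) h
    refine flat_of_retract ψp.toRingHom (Algebra.TensorProduct.includeRight : P →ₐ[k] M ⊗[k] P).toRingHom
      ((Algebra.TensorProduct.lid k P).toAlgHom.comp
        (Algebra.TensorProduct.map (Bialgebra.counitAlgHom k M) (AlgHom.id k P))).toRingHom (fun y => by simp) ?_
    convert h2 using 1
    refine RingHom.ext fun c => ?_
    simp

theorem flat_factors [Algebra.FiniteType k A] [Algebra.FiniteType k A'] (hflat : (φ : A' →+* A).Flat)
    (hneg : (lamNeg : A →ₐ[k] k[T;T⁻¹]) = Dyn.negParam k A lam)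
    (Jp Jm : Ideal A) (Jp' Jm' : Ideal A') [Jp.IsHopfIdeal k] [Jm.IsHopfIdeal k]
    (hp : Dyn.Represents k A Jp (fun R _ _ g => Dyn.LimExists k A lam R g))
    (hm : Dyn.Represents k A Jm (fun R _ _ g => Dyn.LimIsOne k A lamNeg R g))
    (hp' : Dyn.Represents k A' Jp' (fun R _ _ g => Dyn.LimExists k A' (lam.comp φ) R g))
    (hm' : Dyn.Represents k A' Jm' (fun R _ _ g => Dyn.LimIsOne k A' (lamNeg.comp φ) R g)) :
    (∀ h : Jp' ≤ Ideal.comap (φ : A' →+* A) Jp, (Ideal.quotientMap Jp (φ : A' →+* A) h).Flat) ∧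
      ∀ h : Jm' ≤ Ideal.comap (φ : A' →+* A) Jm, (Ideal.quotientMap Jm (φ : A' →+* A) h).Flat := by
  classical
  have hneg' : ((lamNeg.comp φ : A' →ₐc[k] k[T;T⁻¹]) : A' →ₐ[k] k[T;T⁻¹]) =
      Dyn.negParam k A' (lam.comp φ) := by
    refine AlgHom.ext fun a => ?_
    show lamNeg (φ a) = invert (lam (φ a))
    exact DFunLike.congr_fun hneg (φ a)
  obtain ⟨f, E, hE⟩ := exists_away_algEquiv hneg Jp Jm hp hm
  obtain ⟨f', E', hE'⟩ := exists_away_algEquiv hneg' Jp' Jm' hp' hm'
  have lep := le_comap_limExists φ lam Jp Jp' hp hp'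
  have lem := le_comap_limIsOne φ lamNeg Jm Jm' hm hm'
  let ψp : (A' ⧸ Jp') →ₐ[k] (A ⧸ Jp) := Ideal.quotientMapₐ Jp (φ : A' →ₐ[k] A) lep
  let ψm : (A' ⧸ Jm') →ₐ[k] (A ⧸ Jm) := Ideal.quotientMapₐ Jm (φ : A' →ₐ[k] A) lem
  let C := (A ⧸ Jm) ⊗[k] (A ⧸ Jp)
  let C' := (A' ⧸ Jm') ⊗[k] (A' ⧸ Jp')
  let ψ : C' →ₐ[k] C := Algebra.TensorProduct.map ψm ψp
  let g : Localization.Away f' →ₐ[k] Localization.Away f :=
    E.symm.toAlgHom.comp (ψ.comp E'.toAlgHom)
  have hg : ∀ a, g (algebraMap A' _ a) = algebraMap A _ (φ a) := by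
    intro a
    show E.symm (ψ (E' (algebraMap A' _ a))) = _
    rw [hE', AlgEquiv.symm_apply_eq, hE, show CoalgebraStruct.comul (R := k) (φ a) =
      Algebra.TensorProduct.map (φ : A' →ₐ[k] A) (φ : A' →ₐ[k] A) (CoalgebraStruct.comul a) from
        (CoalgHomClass.map_comp_comul_apply φ a).symm]
    show ψ _ = _
    generalize CoalgebraStruct.comul (R := k) a = z
    induction z using TensorProduct.induction_on with
    | zero => simp
    | add x y hx hy => simp only [map_add, hx, hy]
    | tmul x y => rfl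
  have hgflat : g.toRingHom.Flat := by
    letI : Algebra A' A := (φ : A' →+* A).toAlgebra
    letI : Algebra (Localization.Away f') (Localization.Away f) := g.toRingHom.toAlgebra
    haveI : IsScalarTower A' (Localization.Away f') (Localization.Away f) :=
      IsScalarTower.of_algebraMap_eq fun a => (hg a).symm
    haveI : Module.Flat A' A := hflat
    haveI : Module.Flat A (Localization.Away f) := IsLocalization.flat _ (Submonoid.powers f)
    haveI : Module.Flat A' (Localization.Away f) := Module.Flat.trans A' A _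
    exact (Module.flat_iff_of_isLocalization (S := Localization.Away f') (p := Submonoid.powers f')
      (M := Localization.Away f)).2 inferInstance
  have hψflat : ψ.toRingHom.Flat := by
    have : ψ.toRingHom = (E.toAlgHom.toRingHom.comp g.toRingHom).comp E'.symm.toAlgHom.toRingHom := by
      refine RingHom.ext fun c => ?_
      show ψ c = E (E.symm (ψ (E' (E'.symm c))))
      rw [AlgEquiv.apply_symm_apply, AlgEquiv.apply_symm_apply]
    rw [this]
    exact RingHom.Flat.comp (.of_bijective E'.symm.bijective) (RingHom.Flat.comp hgflat (.of_bijective E.bijective))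
  exact ⟨fun _ => (flat_of_flat_map ψm ψp hψflat).2, fun _ => (flat_of_flat_map ψm ψp hψflat).1⟩

/-- A flat map of Hopf algebras out of a connected one is injective. -/
theorem injective_of_flat {B B' : Type u} [CommRing B] [HopfAlgebra k B] [CommRing B'] [HopfAlgebra k B']
    [Algebra.FiniteType k B'] (ψ : B' →ₐc[k] B) (hflat : (ψ : B' →+* B).Flat)
    (hB' : ∀ e : B', IsIdempotentElem e → e = 0 ∨ e = 1) : Function.Injective ψ := by
  haveI : IsNoetherianRing B' := Algebra.FiniteType.isNoetherianRing k B'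
  haveI : Nontrivial B := (Bialgebra.counitAlgHom k B).toRingHom.domain_nontrivial
  let K : Ideal B' := RingHom.ker (ψ : B' →+* B)
  let bar : (B' ⧸ K) →+* B := RingHom.kerLift (ψ : B' →+* B)
  have hbar : bar.FaithfullyFlat := by
    have e : bar = (ψ : B' →ₐ[k] B).range.val.toRingHom.comp
        (Ideal.quotientKerEquivRange (ψ : B' →ₐ[k] B)).toAlgHom.toRingHom := by
      refine RingHom.ext fun x => ?_
      obtain ⟨x, rfl⟩ := Ideal.Quotient.mk_surjective x
      rfl
    rw [e]
    refine RingHom.FaithfullyFlat.stableUnderComposition _ _ ?_ (HopfFF.faithfullyFlat_range ψ)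
    exact RingHom.FaithfullyFlat.of_bijective (Ideal.quotientKerEquivRange (ψ : B' →ₐ[k] B)).bijective
  letI : Algebra B' B := (ψ : B' →+* B).toAlgebra
  letI : Algebra (B' ⧸ K) B := bar.toAlgebra
  haveI : IsScalarTower B' (B' ⧸ K) B := IsScalarTower.of_algebraMap_eq fun _ => rfl
  haveI : Module.Flat B' B := hflat
  haveI : Module.FaithfullyFlat (B' ⧸ K) B := RingHom.faithfullyFlat_algebraMap_iff.1 hbar
  have h0 : Subsingleton (B ⊗[B'] K) := by
    have hinj := Module.Flat.lTensor_preserves_injective_linearMap (M := B) K.subtype K.injective_subtype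
    refine ⟨fun x y => hinj ((TensorProduct.rid B' B).injective ?_)⟩
    have hz : ∀ z, TensorProduct.rid B' B (LinearMap.lTensor B K.subtype z) = 0 := by
      intro z
      induction z using TensorProduct.induction_on with
      | zero => simp
      | add a b ha hb => simp only [map_add, ha, hb, add_zero]
      | tmul b z =>
        simp only [LinearMap.lTensor_tmul, Submodule.coe_subtype, TensorProduct.rid_tmul]
        show ψ (z : B') * b = 0
        rw [show ψ (z : B') = 0 from z.2, zero_mul]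
    rw [hz, hz]
  have h1 : Subsingleton ((B' ⧸ K) ⊗[B'] K) := by
    have : Subsingleton (B ⊗[B' ⧸ K] ((B' ⧸ K) ⊗[B'] K)) :=
      (TensorProduct.AlgebraTensorModule.cancelBaseChange B' (B' ⧸ K) (B' ⧸ K) B K).toEquiv.subsingleton_congr.2 h0
    exact (Module.FaithfullyFlat.subsingleton_tensorProduct_iff_right (B' ⧸ K) B).1 this
  have h2 : Subsingleton (K ⧸ (K • (⊤ : Submodule B' K))) :=
    (TensorProduct.quotTensorEquivQuotSMul K K).toEquiv.subsingleton_congr.1 h1
  rw [Submodule.Quotient.subsingleton_iff] at h2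
  have hKK : IsIdempotentElem K := by
    refine le_antisymm Ideal.mul_le_right fun x hx => ?_
    have hmem : (⟨x, hx⟩ : K) ∈ K • (⊤ : Submodule B' K) := by rw [h2]; trivial
    have := Submodule.mem_map_of_mem (f := K.subtype) hmem
    rw [Submodule.map_smul'', Submodule.map_top, Submodule.range_subtype] at this
    exact this
  obtain ⟨e, he, hKe⟩ := (Ideal.isIdempotentElem_iff_of_fg K (IsNoetherian.noetherian K)).1 hKK
  refine (injective_iff_map_eq_zero (ψ : B' →+* B)).2 fun x hx => ?_
  have hxK : x ∈ K := hx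
  rcases hB' e he with rfl | rfl
  · rw [hKe] at hxK
    simpa using hxK
  · have : (1 : B') ∈ K := by rw [hKe]; exact Ideal.subset_span rfl
    exact absurd (show ψ 1 = 0 from this) (by simp)

/-- The quotient map of Hopf algebras. -/
theorem exists_quotient_bialgHom (J : Ideal A) (J' : Ideal A') [J.IsHopfIdeal k] [J'.IsHopfIdeal k]
    (h : J' ≤ Ideal.comap (φ : A' →+* A) J) :
    ∃ ψ : (A' ⧸ J') →ₐc[k] (A ⧸ J), (ψ : (A' ⧸ J') →+* (A ⧸ J)) = Ideal.quotientMap J (φ : A' →+* A) h := by
  let q := Ideal.quotientMapₐ J (φ : A' →ₐ[k] A) h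
  refine ⟨BialgHom.ofAlgHom q (AlgHom.ext fun x => ?_) (AlgHom.ext fun x => ?_), rfl⟩
  · obtain ⟨a, rfl⟩ := Ideal.Quotient.mk_surjective x
    exact CoalgHomClass.counit_comp_apply φ a
  · obtain ⟨a, rfl⟩ := Ideal.Quotient.mk_surjective x
    show Algebra.TensorProduct.map q q (Algebra.TensorProduct.map (Ideal.Quotient.mkₐ k J') (Ideal.Quotient.mkₐ k J')
      (CoalgebraStruct.comul a)) = Algebra.TensorProduct.map (Ideal.Quotient.mkₐ k J) (Ideal.Quotient.mkₐ k J)
        (CoalgebraStruct.comul (φ a))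
    rw [show CoalgebraStruct.comul (R := k) (φ a) =
      Algebra.TensorProduct.map (φ : A' →ₐ[k] A) (φ : A' →ₐ[k] A) (CoalgebraStruct.comul a) from
        (CoalgHomClass.map_comp_comul_apply φ a).symm]
    generalize CoalgebraStruct.comul (R := k) a = z
    induction z using TensorProduct.induction_on with
    | zero => simp
    | add x y hx hy => simp only [map_add, hx, hy]
    | tmul x y => rfl

end Groth.Agent.DynLib
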