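/-
Smoothness of P(λ), U(λ) and the open cell over any base ring.
-/
import Groth.Agent.DynLib.Limit
import Mathlib.RingTheory.Smooth.Basic
import Mathlib.RingTheory.Etale.Basic
import Mathlib.RingTheory.FinitePresentation
import Mathlib.RingTheory.Ideal.Quotient.Operations

set_option autoImplicit false

universe u

open LaurentPolynomial TensorProduct WithConv

namespace Groth.Agent.DynLib

attribute [local instance] pointsGroup

variable {k : Type u} [CommRing k] {A : Type u} [CommRing A] [HopfAlgebra k A]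
variable {R : Type u} [CommRing R] [Algebra k R] {R' : Type u} [CommRing R'] [Algebra k R']
variable (lam : A →ₐc[k] k[T;T⁻¹])

theorem ev_eq_sum (φ : R →ₐ[k] R') (t : R'ˣ) (f : R[T;T⁻¹]) :
    ev φ t f = ∑ n ∈ f.coeff.support, φ (f.coeff n) * ((t ^ n : R'ˣ) : R') := by
  conv_lhs => rw [← AddMonoidAlgebra.sum_coeff_single f]
  rw [Finsupp.sum, map_sum]
  exact Finset.sum_congr rfl fun n _ => ev_single φ t n _

theorem toLaurent_coeff_nat (p : Polynomial R) (m : ℕ) :
    (Polynomial.toLaurent p).coeff (m : ℤ) = p.coeff m := by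
  induction p using Polynomial.induction_on' with
  | add p q hp hq => rw [map_add, AddMonoidAlgebra.coeff_add, Finsupp.add_apply, hp, hq, Polynomial.coeff_add]
  | monomial j r =>
    rw [← Polynomial.C_mul_X_pow_eq_monomial, Polynomial.toLaurent_C_mul_X_pow,
      ← single_eq_C_mul_T, AddMonoidAlgebra.coeff_single, Finsupp.single_apply,
      Polynomial.coeff_C_mul_X_pow]
    exact if_congr ⟨fun h => by omega, fun h => by omega⟩ rfl rfl

/-- The weight components are idempotent. -/
theorem coef_coef (m n : ℤ) (a : A) :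
    coef lam n (coef lam m a) = if m = n then coef lam m a else 0 := by
  let g0 : WithConv (A →ₐ[k] A) := toConv (AlgHom.id k A)
  let Φ : WithConv (A →ₐ[k] A[T;T⁻¹]) := orbit A lam g0
  have hΦn : ∀ (j : ℤ) b, (Φ.ofConv b).coeff j = coef lam j b := fun j b => orbit_coeff lam (AlgHom.id k A) j b
  let ι : A[T;T⁻¹] →ₐ[k] (A[T;T⁻¹])[T;T⁻¹] := IsScalarTower.toAlgHom k A[T;T⁻¹] _
  have h1 : orbit A[T;T⁻¹] lam Φ =
      push (ev (ι.comp (IsScalarTower.toAlgHom k A A[T;T⁻¹])) (unitT A[T;T⁻¹] * Units.map ι.toRingHom.toMonoidHom (unitT A))) Φ := by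
    rw [ev_orbit, conjAt_mul]
    show conjAt lam (unitT A[T;T⁻¹]) (push ι (conjAt lam (unitT A) (push _ g0))) = _
    rw [push_conjAt, push_push]
  have h2 : Φ.ofConv (coef lam m a) = C (coef lam m a) * T m := by
    have h := orbit_coeff lam Φ.ofConv m a
    rw [toConv_ofConv, h1] at h
    rw [← h]
    show (ev (ι.comp (IsScalarTower.toAlgHom k A A[T;T⁻¹])) (unitT A[T;T⁻¹] * Units.map ι.toRingHom.toMonoidHom (unitT A)) (Φ.ofConv a)).coeff m = _
    rw [ev_eq_sum, AddMonoidAlgebra.coeff_sum, Finsupp.finsetSum_apply]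
    have hterm : ∀ j : ℤ,
        ((ι.comp (IsScalarTower.toAlgHom k A A[T;T⁻¹])) ((Φ.ofConv a).coeff j) *
          (((unitT A[T;T⁻¹] * Units.map ι.toRingHom.toMonoidHom (unitT A)) ^ j : ((A[T;T⁻¹])[T;T⁻¹])ˣ) : (A[T;T⁻¹])[T;T⁻¹])).coeff m =
        if j = m then C ((Φ.ofConv a).coeff j) * T j else 0 := by
      intro j
      rw [mul_zpow, ← map_zpow, Units.val_mul, unitT_zpow, Units.coe_map]
      show ((C (C ((Φ.ofConv a).coeff j)) : (A[T;T⁻¹])[T;T⁻¹]) * (T j * ι ((unitT A ^ j : (A[T;T⁻¹])ˣ) : A[T;T⁻¹]))).coeff m = _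
      rw [unitT_zpow, show ι (T j) = C (T j) from rfl, mul_comm (T j : (A[T;T⁻¹])[T;T⁻¹]) (C (T j)), ← mul_assoc, ← map_mul,
        ← single_eq_C_mul_T, AddMonoidAlgebra.coeff_single, Finsupp.single_apply]
    simp only [hterm]
    rw [Finset.sum_ite_eq']
    split_ifs with hm
    · rw [hΦn]
    · rw [← hΦn, Finsupp.notMem_support_iff.1 hm, map_zero, zero_mul]
  rw [← hΦn, h2, ← single_eq_C_mul_T, AddMonoidAlgebra.coeff_single, Finsupp.single_apply]

theorem counit_coef (n : ℤ) (a : A) :
    CoalgebraStruct.counit (R := k) (coef lam n a) = if n = 0 then CoalgebraStruct.counit (R := k) a else 0 := by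
  have h := orbit_coeff lam (1 : WithConv (A →ₐ[k] k)).ofConv n a
  rw [toConv_ofConv, map_one] at h
  have h' : algebraMap k k (CoalgebraStruct.counit (R := k) (coef lam n a)) =
      (algebraMap k k[T;T⁻¹] (CoalgebraStruct.counit (R := k) a)).coeff n :=
    ((AlgHom.convOne_apply (A := k) (coef lam n a)).symm.trans h.symm).trans
      (congrArg (fun z => AddMonoidAlgebra.coeff z n) (AlgHom.convOne_apply (A := k[T;T⁻¹]) a))
  rw [Algebra.algebraMap_self, RingHom.id_apply] at h'
  rw [h', show algebraMap k k[T;T⁻¹] (CoalgebraStruct.counit (R := k) a) =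
    AddMonoidAlgebra.single 0 (CoalgebraStruct.counit (R := k) a) from rfl, AddMonoidAlgebra.coeff_single,
    Finsupp.single_apply]
  exact if_congr eq_comm rfl rfl

section squareZero

variable {N : Ideal R} (hN : N ^ 2 = ⊥)

include hN in
theorem mul_eq_zero_of_mem {x y : R} (hx : x ∈ N) (hy : y ∈ N) : x * y = 0 := by
  have : x * y ∈ N ^ 2 := by rw [pow_two]; exact Ideal.mul_mem_mul hx hy
  rwa [hN] at this

include hN in
theorem laurent_mul_eq_zero {f g : R[T;T⁻¹]} (hf : ∀ n, f.coeff n ∈ N) (hg : ∀ n, g.coeff n ∈ N) :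
    f * g = 0 := by
  rw [← AddMonoidAlgebra.sum_coeff_single f, ← AddMonoidAlgebra.sum_coeff_single g, Finsupp.sum, Finsupp.sum,
    Finset.sum_mul_sum]
  refine Finset.sum_eq_zero fun i _ => Finset.sum_eq_zero fun j _ => ?_
  rw [AddMonoidAlgebra.single_mul_single, mul_eq_zero_of_mem hN (hf i) (hg j), AddMonoidAlgebra.single_zero]

include hN in
/-- An additive functional commuting with constants is multiplicative near the constants. -/
theorem near_const_mul (L : R[T;T⁻¹] →+ R) (hLC : ∀ r f, L (C r * f) = r * L f) (hL1 : L 1 = 1)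
    {f g : R[T;T⁻¹]} (hf : ∀ n ≠ (0 : ℤ), f.coeff n ∈ N) (hg : ∀ n ≠ (0 : ℤ), g.coeff n ∈ N) :
    L (f * g) = L f * L g := by
  have hsplit : ∀ p : R[T;T⁻¹], (∀ n ≠ (0 : ℤ), p.coeff n ∈ N) → ∀ n, (p - C (p.coeff 0)).coeff n ∈ N := by
    intro p hp n
    rw [AddMonoidAlgebra.coeff_sub, Finsupp.sub_apply, C_apply]
    split_ifs with h
    · subst h; rw [sub_self]; exact N.zero_mem
    · rw [sub_zero]; exact hp n h
  have h1 : (f - C (f.coeff 0)) * (g - C (g.coeff 0)) = 0 := laurent_mul_eq_zero hN (hsplit f hf) (hsplit g hg)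
  have h2 : f * g = C (f.coeff 0) * g + C (g.coeff 0) * f - C (f.coeff 0 * g.coeff 0) * 1 := by
    rw [map_mul, mul_one]; linear_combination h1
  have hC : ∀ r, L (C r) = r := fun r => by rw [← mul_one (C r), hLC, hL1, mul_one]
  have h4 : ∀ p : R[T;T⁻¹], (∀ n ≠ (0 : ℤ), p.coeff n ∈ N) → L p - p.coeff 0 ∈ N := by
    intro p hp
    rw [← hC (p.coeff 0), ← map_sub, ← AddMonoidAlgebra.sum_coeff_single (p - C (p.coeff 0)), Finsupp.sum, map_sum]
    refine N.sum_mem fun n _ => ?_
    rw [single_eq_C_mul_T, hLC]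
    exact N.mul_mem_right _ (hsplit p hp n)
  have h3 : (L f - f.coeff 0) * (L g - g.coeff 0) = 0 := mul_eq_zero_of_mem hN (h4 f hf) (h4 g hg)
  rw [h2, map_sub, map_add, hLC, hLC, hLC, hL1, mul_one]
  linear_combination -h3

/-- The coefficient functional. -/
def coeffHom (n : ℤ) : R[T;T⁻¹] →+ R where
  toFun f := f.coeff n
  map_zero' := by simp
  map_add' := by simp

theorem coeffHom_C_mul (n : ℤ) (r : R) (f : R[T;T⁻¹]) : coeffHom n (C r * f) = r * coeffHom n f := by
  show (C r * f).coeff n = r * f.coeff n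
  rw [← smul_eq_C_mul, AddMonoidAlgebra.coeff_smul, Finsupp.smul_apply, smul_eq_mul]

/-- The sum of the coefficients of nonnegative degree. -/
noncomputable def nonnegSum : R[T;T⁻¹] →+ R :=
  (Polynomial.evalRingHom (1 : R)).toAddMonoidHom.comp trunc

theorem nonnegSum_single (n : ℤ) (r : R) :
    nonnegSum (AddMonoidAlgebra.single n r) = if 0 ≤ n then r else 0 := by
  show (trunc (AddMonoidAlgebra.single n r)).eval 1 = _
  rw [single_eq_C_mul_T, trunc_C_mul_T]
  split_ifs <;> simp

theorem nonnegSum_C_mul (r : R) (f : R[T;T⁻¹]) : nonnegSum (C r * f) = r * nonnegSum f := by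
  induction f using LaurentPolynomial.induction_on' with
  | add p q hp hq => rw [mul_add, map_add, map_add, hp, hq, mul_add]
  | C_mul_T n s =>
    rw [← mul_assoc, ← map_mul, ← single_eq_C_mul_T, ← single_eq_C_mul_T, nonnegSum_single, nonnegSum_single]
    split_ifs <;> simp

theorem nonnegSum_one : nonnegSum (1 : R[T;T⁻¹]) = 1 := by
  rw [show (1 : R[T;T⁻¹]) = AddMonoidAlgebra.single 0 1 from rfl, nonnegSum_single, if_pos le_rfl]

include hN in
/-- A point of the Laurent ring constant modulo N gives a point. -/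
theorem exists_point_of_near (L : R[T;T⁻¹] →+ R) (hLC : ∀ r f, L (C r * f) = r * L f) (hL1 : L 1 = 1)
    (G : A →ₐ[k] R[T;T⁻¹]) (hG : ∀ a, ∀ n ≠ (0 : ℤ), (G a).coeff n ∈ N) :
    ∃ g : A →ₐ[k] R, ∀ a, g a = L (G a) := by
  refine ⟨{ toFun := fun a => L (G a), map_one' := ?_, map_mul' := ?_, map_zero' := ?_, map_add' := ?_, commutes' := ?_ },
    fun a => rfl⟩
  · show L (G 1) = 1
    rw [map_one, hL1]
  · intro a b
    show L (G (a * b)) = L (G a) * L (G b)
    rw [map_mul, near_const_mul hN L hLC hL1 (hG a) (hG b)]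
  · show L (G 0) = 0
    rw [map_zero, map_zero]
  · intro a b
    show L (G (a + b)) = L (G a) + L (G b)
    rw [map_add, map_add]
  · intro r
    show L (G (algebraMap k A r)) = algebraMap k R r
    rw [AlgHom.commutes, IsScalarTower.algebraMap_apply k R R[T;T⁻¹],
      show algebraMap R R[T;T⁻¹] (algebraMap k R r) = C (algebraMap k R r) * 1 from (mul_one _).symm, hLC, hL1,
      mul_one]

include hN in
/-- Near the identity the group law is addition. -/
theorem mul_near_one {x y : WithConv (A →ₐ[k] R)} (hx : ∀ a, x.ofConv a - algebraMap k R (CoalgebraStruct.counit a) ∈ N)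
    (hy : ∀ a, y.ofConv a - algebraMap k R (CoalgebraStruct.counit a) ∈ N) (a : A) :
    (x * y).ofConv a = x.ofConv a + y.ofConv a - algebraMap k R (CoalgebraStruct.counit a) := by
  show (x * y) a = _
  rw [AlgHom.convMul_apply]
  have e : ∀ z : A ⊗[k] A, Algebra.TensorProduct.lift x.ofConv y.ofConv (fun _ _ => Commute.all _ _) z =
      x.ofConv (TensorProduct.rid k A ((CoalgebraStruct.counit (R := k) (A := A)).lTensor A z)) +
      y.ofConv (TensorProduct.lid k A ((CoalgebraStruct.counit (R := k) (A := A)).rTensor A z)) -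
      algebraMap k R (CoalgebraStruct.counit (R := k)
        (TensorProduct.lid k A ((CoalgebraStruct.counit (R := k) (A := A)).rTensor A z))) := by
    intro z
    induction z using TensorProduct.induction_on with
    | zero => simp
    | add p q hp hq => simp only [map_add, hp, hq]; abel
    | tmul p q =>
      simp only [Algebra.TensorProduct.lift_tmul, LinearMap.lTensor_tmul, LinearMap.rTensor_tmul,
        TensorProduct.rid_tmul, TensorProduct.lid_tmul, map_smul, smul_eq_mul, map_mul]
      simp only [Algebra.smul_def]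
      linear_combination mul_eq_zero_of_mem hN (hx p) (hy q)
  rw [e, Coalgebra.lTensor_counit_comul, Coalgebra.rTensor_counit_comul, TensorProduct.rid_tmul,
    TensorProduct.lid_tmul, one_smul]

end squareZero

theorem push_mk_eq_iff {N : Ideal R} (g h : WithConv (A →ₐ[k] R)) :
    push (Ideal.Quotient.mkₐ k N) g = push (Ideal.Quotient.mkₐ k N) h ↔ ∀ a, g.ofConv a - h.ofConv a ∈ N := by
  constructor
  · intro e a
    exact Ideal.Quotient.eq.1 (congrArg (fun z : WithConv (A →ₐ[k] R ⧸ N) => z.ofConv a) e)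
  · intro e
    exact WithConv.ext (AlgHom.ext fun a => Ideal.Quotient.eq.2 (e a))

theorem near_one_iff {N : Ideal R} (g : WithConv (A →ₐ[k] R)) :
    push (Ideal.Quotient.mkₐ k N) g = 1 ↔
      ∀ a, g.ofConv a - algebraMap k R (CoalgebraStruct.counit a) ∈ N := by
  rw [← map_one (push (A := A) (Ideal.Quotient.mkₐ k N)), push_mk_eq_iff]
  exact forall_congr' fun a => Iff.of_eq (congrArg (fun z => g.ofConv a - z ∈ N) (AlgHom.convOne_apply a))

/-- Lifting of points of P(λ), and of U(λ), modulo a square zero ideal. -/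
theorem exists_lift_limExists [Algebra.FormallySmooth k A] (N : Ideal R) (hN : N ^ 2 = ⊥)
    (g0 : A →ₐ[k] R ⧸ N) (h0 : Dyn.LimExists k A lam (R ⧸ N) g0) :
    ∃ g : A →ₐ[k] R, (Ideal.Quotient.mkₐ k N).comp g = g0 ∧ Dyn.LimExists k A lam R g ∧
      (Dyn.LimIsOne k A lam (R ⧸ N) g0 → Dyn.LimIsOne k A lam R g) := by
  classical
  let mk : R →ₐ[k] R ⧸ N := Ideal.Quotient.mkₐ k N
  obtain ⟨p0, hp0⟩ := (limExists_iff lam g0).1 h0
  let mkP : Polynomial R →ₐ[k] Polynomial (R ⧸ N) := Polynomial.mapAlgHom mk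
  have hmkP : ∀ (p : Polynomial R) n, (mkP p).coeff n = mk (p.coeff n) := fun p n => by
    simp [mkP]
  have hsurj : Function.Surjective mkP := fun p =>
    Polynomial.map_surjective mk.toRingHom Ideal.Quotient.mk_surjective p
  have hker : IsNilpotent (RingHom.ker mkP.toRingHom) := by
    refine ⟨2, ?_⟩
    rw [pow_two]
    refine le_bot_iff.1 (Ideal.mul_le.2 fun x hx y hy => ?_)
    show x * y = 0
    refine Polynomial.ext fun n => ?_
    rw [Polynomial.coeff_mul, Polynomial.coeff_zero]
    refine Finset.sum_eq_zero fun c _ => mul_eq_zero_of_mem hN ?_ ?_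
    · rw [← Ideal.Quotient.eq_zero_iff_mem]
      exact (hmkP x c.1).symm.trans ((congrArg (fun q => Polynomial.coeff q c.1) (show mkP x = 0 from hx)).trans (Polynomial.coeff_zero _))
    · rw [← Ideal.Quotient.eq_zero_iff_mem]
      exact (hmkP y c.2).symm.trans ((congrArg (fun q => Polynomial.coeff q c.2) (show mkP y = 0 from hy)).trans (Polynomial.coeff_zero _))
  let h1 : WithConv (A →ₐ[k] Polynomial R) :=
    toConv (Algebra.FormallySmooth.liftOfSurjective p0.ofConv mkP hsurj hker)
  have hh1 : push mkP h1 = p0 :=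
    WithConv.ext (Algebra.FormallySmooth.comp_liftOfSurjective p0.ofConv mkP hsurj hker)
  -- normalise the value at zero when the limit is one
  obtain ⟨h, hh, hone⟩ : ∃ h : WithConv (A →ₐ[k] Polynomial R), push mkP h = p0 ∧
      (push (ev0 k (R ⧸ N)) p0 = 1 → push (ev0 k R) h = 1) := by
    by_cases hc : push (ev0 k (R ⧸ N)) p0 = 1
    · refine ⟨(push (constP k R) (push (ev0 k R) h1))⁻¹ * h1, ?_, fun _ => ?_⟩
      · rw [map_mul, map_inv, hh1]
        have e : push mkP (push (constP k R) (push (ev0 k R) h1)) = 1 := by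
          have e2 : mkP.comp ((constP k R).comp (ev0 k R)) = (constP k (R ⧸ N)).comp ((ev0 k (R ⧸ N)).comp mkP) := by
            refine Polynomial.algHom_ext' (AlgHom.ext fun r => ?_) ?_
            · show mkP (algebraMap R (Polynomial R) (Polynomial.aeval (0 : R) (Polynomial.C r))) =
                algebraMap (R ⧸ N) (Polynomial (R ⧸ N)) (Polynomial.aeval (0 : R ⧸ N) (mkP (Polynomial.C r)))
              simp [mkP]
            · show mkP (algebraMap R (Polynomial R) (Polynomial.aeval (0 : R) Polynomial.X)) =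
                algebraMap (R ⧸ N) (Polynomial (R ⧸ N)) (Polynomial.aeval (0 : R ⧸ N) (mkP Polynomial.X))
              simp [mkP]
          rw [push_push, push_push, AlgHom.comp_assoc, e2, ← push_push, ← push_push, hh1, hc, map_one]
        rw [e]
        letI := pointsGroup (k := k) (A := A) (R := Polynomial (R ⧸ N))
        exact inv_mul_eq_iff_eq_mul.2 (one_mul p0).symm
      · rw [map_mul, map_inv, push_push]
        have e3 : (ev0 k R).comp (constP k R) = AlgHom.id k R := AlgHom.ext fun r => by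
          show Polynomial.aeval (0 : R) (algebraMap R (Polynomial R) r) = r
          simp
        rw [e3]
        exact inv_mul_cancel _
    · exact ⟨h1, hh1, fun hc' => absurd hc' hc⟩
  -- conjugate back
  let G := conjAt lam (unitT R)⁻¹ (push (toL k R) h)
  have hG0 : push (AddMonoidAlgebra.mapAlgHom ℤ mk) G =
      push (IsScalarTower.toAlgHom k (R ⧸ N) (R ⧸ N)[T;T⁻¹]) (toConv g0) := by
    have e1 : (AddMonoidAlgebra.mapAlgHom ℤ mk).comp (toL k R) = (toL k (R ⧸ N)).comp mkP := by
      refine Polynomial.algHom_ext' (AlgHom.ext fun r => ?_) ?_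
      · show AddMonoidAlgebra.mapAlgHom ℤ mk (Polynomial.toLaurent (Polynomial.C r)) =
          Polynomial.toLaurent (mkP (Polynomial.C r))
        rw [Polynomial.toLaurent_C, ← single_eq_C, AddMonoidAlgebra.mapAlgHom_single,
          show mkP (Polynomial.C r) = Polynomial.C (mk r) from Polynomial.map_C _, Polynomial.toLaurent_C, single_eq_C]
      · show AddMonoidAlgebra.mapAlgHom ℤ mk (Polynomial.toLaurent Polynomial.X) =
          Polynomial.toLaurent (mkP Polynomial.X)
        rw [show mkP Polynomial.X = Polynomial.X from Polynomial.map_X _, Polynomial.toLaurent_X,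
          Polynomial.toLaurent_X, LaurentPolynomial.T, AddMonoidAlgebra.mapAlgHom_single, map_one]
        rfl
    have e2 : Units.map (AddMonoidAlgebra.mapAlgHom ℤ mk).toRingHom.toMonoidHom (unitT R) = unitT (R ⧸ N) := by
      refine Units.ext ?_
      show AddMonoidAlgebra.mapAlgHom ℤ mk (T 1) = T 1
      rw [LaurentPolynomial.T, AddMonoidAlgebra.mapAlgHom_single, map_one]
      rfl
    rw [push_conjAt, map_inv, e2, push_push, e1, ← push_push, hh, hp0]
    show conjAt lam (unitT (R ⧸ N))⁻¹ (conjAt lam (unitT (R ⧸ N)) (push _ (toConv g0))) = _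
    rw [← conjAt_mul, inv_mul_cancel, conjAt_one]
  have hGcoeff : ∀ a n, mk ((G.ofConv a).coeff n) = if n = 0 then g0 a else 0 := by
    intro a n
    have e := congrArg (fun z : WithConv (A →ₐ[k] (R ⧸ N)[T;T⁻¹]) => (z.ofConv a).coeff n) hG0
    refine ((AddMonoidAlgebra.coeff_mapAlgHom mk _ n).symm.trans e).trans ?_
    show (AddMonoidAlgebra.single (0 : ℤ) (g0 a) : (R ⧸ N)[T;T⁻¹]).coeff n = _
    rw [AddMonoidAlgebra.coeff_single, Finsupp.single_apply]
    exact if_congr eq_comm rfl rfl
  obtain ⟨g, hg⟩ := exists_point_of_near (A := A) hN (coeffHom 0) (coeffHom_C_mul 0)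
    (by simp [coeffHom]) G.ofConv (fun a n hn => by
      rw [← Ideal.Quotient.eq_zero_iff_mem]
      exact (hGcoeff a n).trans (if_neg hn))
  have hgcoef : ∀ m a, g (coef lam m a) = (Polynomial.toLaurent (h.ofConv (coef lam m a))).coeff m := by
    intro m a
    rw [hg]
    show (G.ofConv (coef lam m a)).coeff 0 = _
    have e : G = push (ev ((toL k R).comp h.ofConv) (unitT R)⁻¹) (orbit A lam (toConv (AlgHom.id k A))) := by
      rw [ev_orbit]
      rfl
    rw [e]
    show (ev ((toL k R).comp h.ofConv) (unitT R)⁻¹ ((orbit A lam (toConv (AlgHom.id k A))).ofConv (coef lam m a))).coeff 0 = _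
    rw [ev_eq_sum, AddMonoidAlgebra.coeff_sum, Finsupp.finsetSum_apply]
    have hterm : ∀ j : ℤ, ((((toL k R).comp h.ofConv)
        (((orbit A lam (toConv (AlgHom.id k A))).ofConv (coef lam m a)).coeff j)) *
        ((((unitT R)⁻¹) ^ j : (R[T;T⁻¹])ˣ) : R[T;T⁻¹])).coeff 0 =
        if m = j then (Polynomial.toLaurent (h.ofConv (coef lam m a))).coeff m else 0 := by
      intro j
      rw [orbit_coeff, AlgHom.id_apply, coef_coef, inv_zpow', unitT_zpow]
      split_ifs with hj
      · subst hj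
        show (Polynomial.toLaurent (h.ofConv (coef lam m a)) * T (-m)).coeff 0 = _
        rw [LaurentPolynomial.T, AddMonoidAlgebra.coeff_mul_single_eq_coeff_mul m (fun m' _ => by omega), mul_one]
      · simp
    simp only [hterm, Finset.sum_ite_eq]
    split_ifs with hmem
    · rfl
    · have : coef lam m a = 0 := by
        have := Finsupp.notMem_support_iff.1 hmem
        rwa [orbit_coeff, AlgHom.id_apply, coef_coef, if_pos rfl] at this
      rw [this, map_zero, map_zero]
      rfl
  refine ⟨g, AlgHom.ext fun a => ?_, ?_, fun hl => ?_⟩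
  · show mk (g a) = g0 a
    rw [hg]
    exact (hGcoeff a 0).trans (if_pos rfl)
  · rw [limExists_iff_coef]
    intro a m hm
    rw [hgcoef]
    exact toLaurent_coeff_neg _ hm
  · rw [limIsOne_iff_coef]
    refine ⟨fun a m hm => by rw [hgcoef]; exact toLaurent_coeff_neg _ hm, fun a => ?_⟩
    obtain ⟨q, hq, hq0⟩ := (limIsOne_iff lam g0).1 hl
    have hqp : q = p0 := push_injective (toL_injective (k := k)) (by rw [hq, hp0])
    have h1 := hone (hqp ▸ hq0)
    rw [map_sub, hgcoef, toLaurent_coeff_zero, AlgHom.commutes, sub_eq_zero, Polynomial.coeff_zero_eq_aeval_zero]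
    refine ((congrArg (fun z : WithConv (A →ₐ[k] R) => z.ofConv (coef lam 0 a)) h1).trans
      (AlgHom.convOne_apply _)).trans ?_
    rw [counit_coef, if_pos rfl]

/-- A point of P(λ) and U(-λ) is the identity. -/
theorem eq_one_of_both {lamNeg : A →ₐc[k] k[T;T⁻¹]}
    (hneg : (lamNeg : A →ₐ[k] k[T;T⁻¹]) = Dyn.negParam k A lam) (g : A →ₐ[k] R)
    (h1 : Dyn.LimExists k A lam R g) (h2 : Dyn.LimIsOne k A lamNeg R g) :
    toConv g = 1 := by
  rw [limExists_iff_coef] at h1
  rw [limIsOne_iff_coef] at h2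
  apply WithConv.ext
  refine AlgHom.ext fun a => ?_
  show g a = (1 : WithConv (A →ₐ[k] R)) a
  rw [AlgHom.convOne_apply]
  have h0 : g (coef lam 0 a) = algebraMap k R (CoalgebraStruct.counit a) := by
    have := h2.2 a
    rwa [map_sub, orbit_neg_coeff hneg g 0 a, neg_zero, AlgHom.commutes, sub_eq_zero] at this
  have hne : ∀ n ≠ (0 : ℤ), g (coef lam n a) = 0 := by
    intro n hn
    rcases lt_or_gt_of_ne hn with h | h
    · exact h1 a n h
    · rw [← neg_neg n, ← orbit_neg_coeff hneg g (-n) a]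
      exact h2.1 a (-n) (by omega)
  have e := congrArg (fun z : WithConv (A →ₐ[k] R) => z.ofConv a) (ev_one_orbit lam (toConv g))
  refine e.symm.trans ?_
  show ev (AlgHom.id k R) 1 ((orbit R lam (toConv g)).ofConv a) = _
  rw [ev_eq_sum]
  simp only [one_zpow, Units.val_one, mul_one, AlgHom.id_apply, orbit_coeff]
  rw [Finset.sum_eq_single (0 : ℤ) (fun n _ hn => hne n hn)]
  · exact h0
  · intro hm
    rw [← orbit_coeff lam g 0 a]
    exact Finsupp.notMem_support_iff.1 hm

/-- Decomposition near the identity. -/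
theorem exists_decomp_near {lamNeg : A →ₐc[k] k[T;T⁻¹]}
    (hneg : (lamNeg : A →ₐ[k] k[T;T⁻¹]) = Dyn.negParam k A lam) (N : Ideal R) (hN : N ^ 2 = ⊥)
    (δ : WithConv (A →ₐ[k] R)) (hδ : push (Ideal.Quotient.mkₐ k N) δ = 1) :
    ∃ dm dp : WithConv (A →ₐ[k] R), dm * dp = δ ∧ push (Ideal.Quotient.mkₐ k N) dm = 1 ∧
      push (Ideal.Quotient.mkₐ k N) dp = 1 ∧ Dyn.LimIsOne k A lamNeg R dm.ofConv ∧
      Dyn.LimExists k A lam R dp.ofConv := by
  classical
  let G := orbit R lam δ
  have hGn : ∀ a n, (G.ofConv a).coeff n = δ.ofConv (coef lam n a) := fun a n => by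
    rw [← orbit_coeff lam δ.ofConv n a]
  have hmem := (near_one_iff δ).1 hδ
  have hGN : ∀ a, ∀ n ≠ (0 : ℤ), (G.ofConv a).coeff n ∈ N := fun a n hn => by
    rw [hGn]
    have := hmem (coef lam n a)
    rwa [counit_coef, if_neg hn, map_zero, sub_zero] at this
  obtain ⟨gp, hgp⟩ := exists_point_of_near hN nonnegSum nonnegSum_C_mul nonnegSum_one G.ofConv hGN
  have hgpcoef : ∀ m a, gp (coef lam m a) = if 0 ≤ m then δ.ofConv (coef lam m a) else 0 := by
    intro m a
    rw [hgp]
    have e : G.ofConv (coef lam m a) = AddMonoidAlgebra.single m (δ.ofConv (coef lam m a)) := by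
      refine AddMonoidAlgebra.ext (Finsupp.ext fun j => ?_)
      rw [hGn, coef_coef, AddMonoidAlgebra.coeff_single, Finsupp.single_apply]
      split_ifs <;> simp
    rw [e, nonnegSum_single]
  have hgpN : ∀ a, gp a - algebraMap k R (CoalgebraStruct.counit a) ∈ N := by
    intro a
    have h0 : (G.ofConv a).coeff 0 - algebraMap k R (CoalgebraStruct.counit a) ∈ N := by
      rw [hGn]
      have := hmem (coef lam 0 a)
      rwa [counit_coef, if_pos rfl] at this
    rw [hgp]
    have hsplit : nonnegSum (G.ofConv a) - (G.ofConv a).coeff 0 ∈ N := by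
      rw [show (G.ofConv a).coeff 0 = nonnegSum (C ((G.ofConv a).coeff 0)) by
        rw [← mul_one (C _), nonnegSum_C_mul, nonnegSum_one, mul_one], ← map_sub,
        ← AddMonoidAlgebra.sum_coeff_single (G.ofConv a - C ((G.ofConv a).coeff 0)), Finsupp.sum, map_sum]
      refine N.sum_mem fun n _ => ?_
      rw [nonnegSum_single]
      split_ifs
      · rw [AddMonoidAlgebra.coeff_sub, Finsupp.sub_apply, C_apply]
        split_ifs with h
        · subst h; rw [sub_self]; exact N.zero_mem
        · rw [sub_zero]; exact hGN a n h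
      · exact N.zero_mem
    have := N.add_mem hsplit h0
    rwa [sub_add_sub_cancel] at this
  have hdp : push (Ideal.Quotient.mkₐ k N) (toConv gp) = 1 := (near_one_iff _).2 hgpN
  have hdm : push (Ideal.Quotient.mkₐ k N) (δ * (toConv gp)⁻¹) = 1 := by
    rw [map_mul, map_inv, hδ, hdp, inv_one, one_mul]
  have hval : ∀ a, (δ * (toConv gp)⁻¹).ofConv a =
      δ.ofConv a - gp a + algebraMap k R (CoalgebraStruct.counit a) := by
    intro a
    have := mul_near_one hN ((near_one_iff _).1 hdm) hgpN a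
    rw [inv_mul_cancel_right, ofConv_toConv] at this
    linear_combination -this
  refine ⟨δ * (toConv gp)⁻¹, toConv gp, inv_mul_cancel_right δ _, hdm, hdp, ?_, ?_⟩
  · rw [limIsOne_iff_coef]
    refine ⟨fun a n hn => ?_, fun a => ?_⟩
    · rw [orbit_neg_coeff hneg, hval, hgpcoef, if_pos (by omega), counit_coef, if_neg (by omega), map_zero]
      ring
    · rw [map_sub, orbit_neg_coeff hneg, neg_zero, hval, hgpcoef, if_pos le_rfl, counit_coef, if_pos rfl,
        AlgHom.commutes]
      ring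
  · rw [limExists_iff_coef]
    intro a n hn
    show gp _ = 0
    rw [hgpcoef, if_neg (by omega)]

theorem eq_idealP {J : Ideal A} (hJ : Dyn.Represents k A J (fun R _ _ g => Dyn.LimExists k A lam R g)) :
    J = idealP lam :=
  le_antisymm
    (fun a ha => Ideal.Quotient.eq_zero_iff_mem.1 (((hJ (A ⧸ idealP lam) (Ideal.Quotient.mkₐ k _)).2
      ((represents_idealP lam _ _).1 fun _ hx => Ideal.Quotient.eq_zero_iff_mem.2 hx)) a ha))
    (fun a ha => Ideal.Quotient.eq_zero_iff_mem.1 (((represents_idealP lam (A ⧸ J) (Ideal.Quotient.mkₐ k _)).2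
      ((hJ _ _).1 fun _ hx => Ideal.Quotient.eq_zero_iff_mem.2 hx)) a ha))

theorem eq_idealU {J : Ideal A} (hJ : Dyn.Represents k A J (fun R _ _ g => Dyn.LimIsOne k A lam R g)) :
    J = idealU lam :=
  le_antisymm
    (fun a ha => Ideal.Quotient.eq_zero_iff_mem.1 (((hJ (A ⧸ idealU lam) (Ideal.Quotient.mkₐ k _)).2
      ((represents_idealU lam _ _).1 fun _ hx => Ideal.Quotient.eq_zero_iff_mem.2 hx)) a ha))
    (fun a ha => Ideal.Quotient.eq_zero_iff_mem.1 (((represents_idealU lam (A ⧸ J) (Ideal.Quotient.mkₐ k _)).2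
      ((hJ _ _).1 fun _ hx => Ideal.Quotient.eq_zero_iff_mem.2 hx)) a ha))

theorem fg_ideals [Algebra.FiniteType k A] : (idealP lam).FG ∧ (idealU lam).FG := by
  classical
  obtain ⟨S, hS⟩ := (‹Algebra.FiniteType k A›).out
  let G := orbit A lam (toConv (AlgHom.id k A))
  let F : Finset A := S.biUnion fun a => ((G.ofConv a).coeff.support.filter (· < 0)).image fun n => coef lam n a
  let F' : Finset A := F ∪ S.image fun a => coef lam 0 a - algebraMap k A (CoalgebraStruct.counit a)
  have keyP : ∀ (Q : Type u) [CommRing Q] [Algebra k Q] (g : A →ₐ[k] Q), (∀ x ∈ F, g x = 0) →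
      Dyn.LimExists k A lam Q g := by
    intro Q _ _ g hg
    rw [limExists_iff_coef]
    intro a n hn
    have hm : a ∈ ((toL k Q).range.comap (orbit Q lam (toConv g)).ofConv) := by
      have ha : a ∈ Algebra.adjoin k (S : Set A) := by rw [hS]; trivial
      refine Algebra.adjoin_le (fun s hs => ?_) ha
      refine mem_range_toLaurent fun m hm => ?_
      show ((orbit Q lam (toConv g)).ofConv s).coeff m = 0
      rw [orbit_coeff]
      by_cases hsup : m ∈ (G.ofConv s).coeff.support
      · exact hg _ (Finset.mem_biUnion.2 ⟨s, hs, Finset.mem_image.2 ⟨m, Finset.mem_filter.2 ⟨hsup, hm⟩, rfl⟩⟩)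
      · have := Finsupp.notMem_support_iff.1 hsup
        rw [orbit_coeff, AlgHom.id_apply] at this
        rw [this, map_zero]
    obtain ⟨p, hp⟩ := hm
    rw [← orbit_coeff lam g n a]
    exact hp ▸ toLaurent_coeff_neg p hn
  have keyU : ∀ (Q : Type u) [CommRing Q] [Algebra k Q] (g : A →ₐ[k] Q), (∀ x ∈ F', g x = 0) →
      Dyn.LimIsOne k A lam Q g := by
    intro Q _ _ g hg
    obtain ⟨h, hh⟩ := (limExists_iff lam g).1 (keyP Q g fun x hx => hg x (Finset.mem_union_left _ hx))
    refine (limIsOne_iff lam g).2 ⟨h, hh, WithConv.ext (AlgHom.ext_of_adjoin_eq_top hS fun s hs => ?_)⟩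
    rw [ev0_eq_coef lam g hh s]
    refine Eq.trans ?_ (AlgHom.convOne_apply s).symm
    have := hg _ (Finset.mem_union_right _ (Finset.mem_image.2 ⟨s, hs, rfl⟩))
    rwa [map_sub, AlgHom.commutes, sub_eq_zero] at this
  refine ⟨⟨F, le_antisymm ?_ ?_⟩, ⟨F', le_antisymm ?_ ?_⟩⟩
  · refine Ideal.span_le.2 fun x hx => ?_
    obtain ⟨s, -, hx⟩ := Finset.mem_biUnion.1 hx
    obtain ⟨n, hn, rfl⟩ := Finset.mem_image.1 hx
    exact Ideal.subset_span ⟨s, n, (Finset.mem_filter.1 hn).2, rfl⟩
  · intro a ha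
    exact Ideal.Quotient.eq_zero_iff_mem.1 ((represents_idealP lam _ (Ideal.Quotient.mkₐ k _)).2
      (keyP _ _ fun x hx => Ideal.Quotient.eq_zero_iff_mem.2 (Ideal.subset_span hx)) a ha)
  · refine Ideal.span_le.2 fun x hx => ?_
    rcases Finset.mem_union.1 hx with hx | hx
    · obtain ⟨s, -, hx⟩ := Finset.mem_biUnion.1 hx
      obtain ⟨n, hn, rfl⟩ := Finset.mem_image.1 hx
      exact Ideal.mem_sup_left (Ideal.subset_span ⟨s, n, (Finset.mem_filter.1 hn).2, rfl⟩)
    · obtain ⟨s, -, rfl⟩ := Finset.mem_image.1 hx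
      exact Ideal.mem_sup_right (Ideal.subset_span ⟨s, rfl⟩)
  · intro a ha
    exact Ideal.Quotient.eq_zero_iff_mem.1 ((represents_idealU lam _ (Ideal.Quotient.mkₐ k _)).2
      (keyU _ _ fun x hx => Ideal.Quotient.eq_zero_iff_mem.2 (Ideal.subset_span hx)) a ha)

theorem smooth_quotient_limExists [Algebra.Smooth k A] (J : Ideal A)
    (hJ : Dyn.Represents k A J (fun R _ _ g => Dyn.LimExists k A lam R g)) : Algebra.Smooth k (A ⧸ J) := by
  have hfs : Algebra.FormallySmooth k A := Algebra.Smooth.formallySmooth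
  have hfp : Algebra.FinitePresentation k A := Algebra.Smooth.finitePresentation
  refine ⟨?_, Algebra.FinitePresentation.quotient (eq_idealP lam hJ ▸ (fg_ideals lam).1)⟩
  refine Algebra.FormallySmooth.of_comp_surjective fun B _ _ I hI f => ?_
  obtain ⟨g, hg, hlim, -⟩ := exists_lift_limExists lam I hI (f.comp (Ideal.Quotient.mkₐ k J))
    ((hJ _ _).1 fun a ha => by
      show f (Ideal.Quotient.mk J a) = 0
      rw [Ideal.Quotient.eq_zero_iff_mem.2 ha, map_zero])
  refine ⟨Ideal.Quotient.liftₐ J g ((hJ B g).2 hlim), AlgHom.ext fun x => ?_⟩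
  obtain ⟨a, rfl⟩ := Ideal.Quotient.mk_surjective x
  exact DFunLike.congr_fun hg a

theorem smooth_quotient_limIsOne [Algebra.Smooth k A] (J : Ideal A)
    (hJ : Dyn.Represents k A J (fun R _ _ g => Dyn.LimIsOne k A lam R g)) : Algebra.Smooth k (A ⧸ J) := by
  have hfs : Algebra.FormallySmooth k A := Algebra.Smooth.formallySmooth
  have hfp : Algebra.FinitePresentation k A := Algebra.Smooth.finitePresentation
  refine ⟨?_, Algebra.FinitePresentation.quotient (eq_idealU lam hJ ▸ (fg_ideals lam).2)⟩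
  refine Algebra.FormallySmooth.of_comp_surjective fun B _ _ I hI f => ?_
  have h0 := (hJ (B ⧸ I) (f.comp (Ideal.Quotient.mkₐ k J))).1 fun a ha => by
      show f (Ideal.Quotient.mk J a) = 0
      rw [Ideal.Quotient.eq_zero_iff_mem.2 ha, map_zero]
  obtain ⟨g, hg, -, hlim⟩ := exists_lift_limExists lam I hI (f.comp (Ideal.Quotient.mkₐ k J))
    ((limExists_iff lam _).2 (let ⟨p, hp, _⟩ := (limIsOne_iff lam _).1 h0; ⟨p, hp⟩))
  refine ⟨Ideal.Quotient.liftₐ J g ((hJ B g).2 (hlim h0)), AlgHom.ext fun x => ?_⟩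
  obtain ⟨a, rfl⟩ := Ideal.Quotient.mk_surjective x
  exact DFunLike.congr_fun hg a

end Groth.Agent.DynLib
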